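import Mathlib

/-!
Quaternions with coefficients in a possibly noncommutative ring.
-/

namespace Cfsg.Agent.Schur

/-- Quaternions over a possibly noncommutative ring. -/
@[ext] structure Quat (C : Type*) where
  re : C
  i : C
  j : C
  k : C

namespace Quat

variable {C : Type*} [Ring C]

instance instZeroQuat : Zero (Quat C) := ⟨⟨0, 0, 0, 0⟩⟩
instance instOneQuat : One (Quat C) := ⟨⟨1, 0, 0, 0⟩⟩
instance instAddQuat : Add (Quat C) := ⟨fun x y => ⟨x.re + y.re, x.i + y.i, x.j + y.j, x.k + y.k⟩⟩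
instance instNegQuat : Neg (Quat C) := ⟨fun x => ⟨-x.re, -x.i, -x.j, -x.k⟩⟩
instance instSubQuat : Sub (Quat C) := ⟨fun x y => ⟨x.re - y.re, x.i - y.i, x.j - y.j, x.k - y.k⟩⟩
instance instMulQuat : Mul (Quat C) := ⟨fun x y =>
  ⟨x.re * y.re - x.i * y.i - x.j * y.j - x.k * y.k,
   x.re * y.i + x.i * y.re + x.j * y.k - x.k * y.j,
   x.re * y.j - x.i * y.k + x.j * y.re + x.k * y.i,
   x.re * y.k + x.i * y.j - x.j * y.i + x.k * y.re⟩⟩
instance instNatCastQuat : NatCast (Quat C) := ⟨fun n => ⟨n, 0, 0, 0⟩⟩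
instance instIntCastQuat : IntCast (Quat C) := ⟨fun n => ⟨n, 0, 0, 0⟩⟩
instance instSMulNatQuat : SMul ℕ (Quat C) := ⟨fun n x => ⟨n • x.re, n • x.i, n • x.j, n • x.k⟩⟩
instance instSMulIntQuat : SMul ℤ (Quat C) := ⟨fun n x => ⟨n • x.re, n • x.i, n • x.j, n • x.k⟩⟩

@[simp] theorem zero_re : (0 : Quat C).re = 0 := rfl
@[simp] theorem zero_i : (0 : Quat C).i = 0 := rfl
@[simp] theorem zero_j : (0 : Quat C).j = 0 := rfl
@[simp] theorem zero_k : (0 : Quat C).k = 0 := rfl
@[simp] theorem one_re : (1 : Quat C).re = 1 := rfl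
@[simp] theorem one_i : (1 : Quat C).i = 0 := rfl
@[simp] theorem one_j : (1 : Quat C).j = 0 := rfl
@[simp] theorem one_k : (1 : Quat C).k = 0 := rfl
@[simp] theorem add_re (x y : Quat C) : (x + y).re = x.re + y.re := rfl
@[simp] theorem add_i (x y : Quat C) : (x + y).i = x.i + y.i := rfl
@[simp] theorem add_j (x y : Quat C) : (x + y).j = x.j + y.j := rfl
@[simp] theorem add_k (x y : Quat C) : (x + y).k = x.k + y.k := rfl
@[simp] theorem neg_re (x : Quat C) : (-x).re = -x.re := rfl
@[simp] theorem neg_i (x : Quat C) : (-x).i = -x.i := rfl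
@[simp] theorem neg_j (x : Quat C) : (-x).j = -x.j := rfl
@[simp] theorem neg_k (x : Quat C) : (-x).k = -x.k := rfl
@[simp] theorem sub_re (x y : Quat C) : (x - y).re = x.re - y.re := rfl
@[simp] theorem sub_i (x y : Quat C) : (x - y).i = x.i - y.i := rfl
@[simp] theorem sub_j (x y : Quat C) : (x - y).j = x.j - y.j := rfl
@[simp] theorem sub_k (x y : Quat C) : (x - y).k = x.k - y.k := rfl
@[simp] theorem mul_re (x y : Quat C) :
    (x * y).re = x.re * y.re - x.i * y.i - x.j * y.j - x.k * y.k := rfl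
@[simp] theorem mul_i (x y : Quat C) :
    (x * y).i = x.re * y.i + x.i * y.re + x.j * y.k - x.k * y.j := rfl
@[simp] theorem mul_j (x y : Quat C) :
    (x * y).j = x.re * y.j - x.i * y.k + x.j * y.re + x.k * y.i := rfl
@[simp] theorem mul_k (x y : Quat C) :
    (x * y).k = x.re * y.k + x.i * y.j - x.j * y.i + x.k * y.re := rfl
@[simp] theorem natCast_re (n : ℕ) : (n : Quat C).re = n := rfl
@[simp] theorem natCast_i (n : ℕ) : (n : Quat C).i = 0 := rfl
@[simp] theorem natCast_j (n : ℕ) : (n : Quat C).j = 0 := rfl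
@[simp] theorem natCast_k (n : ℕ) : (n : Quat C).k = 0 := rfl
@[simp] theorem intCast_re (n : ℤ) : (n : Quat C).re = n := rfl
@[simp] theorem intCast_i (n : ℤ) : (n : Quat C).i = 0 := rfl
@[simp] theorem intCast_j (n : ℤ) : (n : Quat C).j = 0 := rfl
@[simp] theorem intCast_k (n : ℤ) : (n : Quat C).k = 0 := rfl
@[simp] theorem nsmul_re (n : ℕ) (x : Quat C) : (n • x).re = n • x.re := rfl
@[simp] theorem nsmul_i (n : ℕ) (x : Quat C) : (n • x).i = n • x.i := rfl
@[simp] theorem nsmul_j (n : ℕ) (x : Quat C) : (n • x).j = n • x.j := rfl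
@[simp] theorem nsmul_k (n : ℕ) (x : Quat C) : (n • x).k = n • x.k := rfl
@[simp] theorem zsmul_re (n : ℤ) (x : Quat C) : (n • x).re = n • x.re := rfl
@[simp] theorem zsmul_i (n : ℤ) (x : Quat C) : (n • x).i = n • x.i := rfl
@[simp] theorem zsmul_j (n : ℤ) (x : Quat C) : (n • x).j = n • x.j := rfl
@[simp] theorem zsmul_k (n : ℤ) (x : Quat C) : (n • x).k = n • x.k := rfl

instance instRingQuat : Ring (Quat C) where
  add_assoc x y z := by ext <;> simp [add_assoc]
  zero_add x := by ext <;> simp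
  add_zero x := by ext <;> simp
  add_comm x y := by ext <;> simp [add_comm]
  neg_add_cancel x := by ext <;> simp
  sub_eq_add_neg x y := by ext <;> simp [sub_eq_add_neg]
  nsmul := (· • ·)
  nsmul_zero x := by ext <;> simp
  nsmul_succ n x := by ext <;> simp [add_mul]
  zsmul := (· • ·)
  zsmul_zero' x := by ext <;> simp
  zsmul_succ' n x := by ext <;> simp [add_mul]
  zsmul_neg' n x := by ext <;> simp [add_mul]
  left_distrib x y z := by ext <;> simp <;> noncomm_ring
  right_distrib x y z := by ext <;> simp <;> noncomm_ring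
  zero_mul x := by ext <;> simp
  mul_zero x := by ext <;> simp
  mul_assoc x y z := by ext <;> simp <;> noncomm_ring
  one_mul x := by ext <;> simp
  mul_one x := by ext <;> simp
  natCast_zero := by ext <;> simp
  natCast_succ n := by ext <;> simp
  intCast_ofNat n := by ext <;> simp
  intCast_negSucc n := by ext <;> simp

@[simp] theorem ofNat_re (n : ℕ) [n.AtLeastTwo] : (ofNat(n) : Quat C).re = ofNat(n) := rfl
@[simp] theorem ofNat_i (n : ℕ) [n.AtLeastTwo] : (ofNat(n) : Quat C).i = 0 := rfl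
@[simp] theorem ofNat_j (n : ℕ) [n.AtLeastTwo] : (ofNat(n) : Quat C).j = 0 := rfl
@[simp] theorem ofNat_k (n : ℕ) [n.AtLeastTwo] : (ofNat(n) : Quat C).k = 0 := rfl

/-- Change of coefficients. -/
def map {D : Type*} [Ring D] (φ : C →+* D) : Quat C →+* Quat D where
  toFun x := ⟨φ x.re, φ x.i, φ x.j, φ x.k⟩
  map_one' := by ext <;> simp
  map_mul' x y := by ext <;> simp
  map_zero' := by ext <;> simp
  map_add' x y := by ext <;> simp

theorem map_apply {D : Type*} [Ring D] (φ : C →+* D) (x : Quat C) :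
    map φ x = ⟨φ x.re, φ x.i, φ x.j, φ x.k⟩ := rfl

theorem map_injective {D : Type*} [Ring D] {φ : C →+* D} (h : Function.Injective φ) :
    Function.Injective (map φ) := fun _ _ e =>
  Quat.ext (h (congrArg re e)) (h (congrArg i e)) (h (congrArg j e)) (h (congrArg k e))

/-- The reduced norm. -/
def nrm (x : Quat C) : C := x.re * x.re + x.i * x.i + x.j * x.j + x.k * x.k

theorem nrm_mul {A : Type*} [CommRing A] (x y : Quat A) : nrm (x * y) = nrm x * nrm y := by
  simp only [nrm, mul_re, mul_i, mul_j, mul_k]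
  ring

theorem nrm_map {D : Type*} [Ring D] (φ : C →+* D) (x : Quat C) : nrm (map φ x) = φ (nrm x) := by
  simp [nrm, map_apply]

section Basis

variable {R : Type*} [Ring R] [Algebra ℚ R] {I J : R}

/-- A pair of anticommuting square roots of `-1`. -/
structure IsPair (I J : R) : Prop where
  ii : I * I = -1
  jj : J * J = -1
  ji : J * I = -(I * J)

namespace IsPair

variable (h : IsPair I J)
include h

omit [Algebra ℚ R]

theorem ii' (x : R) : I * (I * x) = -x := by rw [← mul_assoc, h.ii, neg_one_mul]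
theorem jj' (x : R) : J * (J * x) = -x := by rw [← mul_assoc, h.jj, neg_one_mul]
theorem ji' (x : R) : J * (I * x) = -(I * (J * x)) := by
  rw [← mul_assoc, h.ji, neg_mul, mul_assoc]

end IsPair

theorem cent_i (c : Subalgebra.centralizer ℚ ({I, J} : Set R)) : (c : R) * I = I * c :=
  (c.2 I (by simp)).symm
theorem cent_j (c : Subalgebra.centralizer ℚ ({I, J} : Set R)) : (c : R) * J = J * c :=
  (c.2 J (by simp)).symm
theorem cent_i' (c : Subalgebra.centralizer ℚ ({I, J} : Set R)) (x : R) :
    (c : R) * (I * x) = I * (c * x) := by rw [← mul_assoc, cent_i, mul_assoc]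
theorem cent_j' (c : Subalgebra.centralizer ℚ ({I, J} : Set R)) (x : R) :
    (c : R) * (J * x) = J * (c * x) := by rw [← mul_assoc, cent_j, mul_assoc]

/-- The evaluation homomorphism. -/
def eval (h : IsPair I J) : Quat (Subalgebra.centralizer ℚ ({I, J} : Set R)) →+* R where
  toFun x := x.re + I * x.i + J * x.j + I * (J * x.k)
  map_one' := by simp
  map_zero' := by simp
  map_add' x y := by simp only [add_re, add_i, add_j, add_k, Subalgebra.coe_add]; noncomm_ring
  map_mul' x y := by
    simp only [mul_re, mul_i, mul_j, mul_k, Subalgebra.coe_add, Subalgebra.coe_mul,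
      AddSubgroupClass.coe_sub, mul_add, add_mul, mul_sub, mul_assoc, cent_i', cent_j', h.ii',
      h.jj', h.ji', mul_neg, neg_neg]
    abel

theorem eval_apply (h : IsPair I J) (x : Quat (Subalgebra.centralizer ℚ ({I, J} : Set R))) :
    eval h x = x.re + I * x.i + J * x.j + I * (J * x.k) := rfl

/-- Averaging over the quaternion group. -/
def avg (h : IsPair I J) (b : R) : Subalgebra.centralizer ℚ ({I, J} : Set R) :=
  ⟨(1 / 4 : ℚ) • (b - I * b * I - J * b * J - I * J * b * (I * J)), by
    rintro _ (rfl | rfl) <;> rw [mul_smul_comm, smul_mul_assoc] <;> congr 1 <;>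
      simp only [mul_sub, sub_mul, mul_assoc, h.ii', h.jj', h.ji', h.ii, h.jj, h.ji, mul_neg,
        neg_neg, mul_one] <;> abel⟩

theorem avg_eval (h : IsPair I J) (x : Quat (Subalgebra.centralizer ℚ ({I, J} : Set R))) :
    avg h (eval h x) = x.re := by
  ext
  simp only [avg, eval_apply, mul_add, add_mul, mul_assoc, cent_i', cent_j', cent_i, cent_j, h.ii',
    h.jj', h.ji', mul_neg, neg_neg, neg_mul]
  module

theorem eval_bijective (h : IsPair I J) : Function.Bijective (eval h) := by
  constructor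
  · rw [injective_iff_map_eq_zero]
    intro x hx
    have h0 : ∀ y, (y * x).re = 0 := fun y => by
      rw [← avg_eval h, map_mul, hx, mul_zero]
      ext
      simp [avg]
    ext1
    · simpa using h0 1
    · simpa using h0 ⟨0, 1, 0, 0⟩
    · simpa using h0 ⟨0, 0, 1, 0⟩
    · simpa using h0 ⟨0, 0, 0, 1⟩
  · intro b
    refine ⟨⟨avg h b, avg h (-(I * b)), avg h (-(J * b)), avg h (-(I * (J * b)))⟩, ?_⟩
    simp only [avg, eval_apply, mul_smul_comm, mul_sub, mul_assoc, h.ii', h.jj', h.ji', mul_neg,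
      neg_neg, neg_mul]
    module

/-- A rational algebra containing a quaternion pair is a quaternion algebra. -/
theorem exists_equiv (h : IsPair I J) :
    ∃ e : R ≃+* Quat (Subalgebra.centralizer ℚ ({I, J} : Set R)),
      e I = ⟨0, 1, 0, 0⟩ ∧ e J = ⟨0, 0, 1, 0⟩ := by
  refine ⟨(RingEquiv.ofBijective _ (eval_bijective h)).symm, ?_, ?_⟩ <;>
    rw [RingEquiv.symm_apply_eq] <;> simp [eval_apply]

end Basis

end Quat

end Cfsg.Agent.Schur
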