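import Mathlib
import Cfsg.Agent.Lib.Schur.Quat

/-!
The golden ring, its reduction modulo `√5`, and generators of `SL(2,5)`.
-/

namespace Cfsg.Agent.Schur

open Quat

/-- The ring `ℤ[φ]`. -/
abbrev ZPhi := QuadraticAlgebra ℤ 1 1

/-- Evaluation of `ℤ[φ]` at a root of `x ^ 2 - x - 1`. -/
def phiLift {C : Type*} [Ring C] (f : C) (hf : f * f = f + 1) : ZPhi →+* C where
  toFun z := z.re + z.im * f
  map_one' := by simp [QuadraticAlgebra.re_one, QuadraticAlgebra.im_one]
  map_zero' := by simp
  map_add' x y := by simp [add_mul]; abel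
  map_mul' x y := by
    simp only [QuadraticAlgebra.re_mul, QuadraticAlgebra.im_mul, ← zsmul_one,
      add_mul, mul_add, smul_mul_assoc, mul_smul_comm, hf, one_mul, mul_one]
    module

theorem phiLift_apply {C : Type*} [Ring C] (f : C) (hf : f * f = f + 1) (z : ZPhi) :
    phiLift f hf z = z.re + z.im * f := rfl

theorem int_norm_form_eq_zero {m n : ℤ} (h : m * m + m * n - n * n = 0) : m = 0 ∧ n = 0 := by
  have h5 : (2 * m + n) ^ 2 = 5 * n ^ 2 := by linear_combination 4 * h
  have hn : n = 0 := by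
    by_contra hn
    have hirr : Irrational (√(5 : ℕ)) := (by norm_num : Nat.Prime 5).irrational_sqrt
    refine hirr ⟨|(2 * m + n : ℚ) / n|, ?_⟩
    have hn' : (n : ℝ) ≠ 0 := by exact_mod_cast hn
    have h6 : (2 * m + n : ℝ) ^ 2 = 5 * n ^ 2 := by exact_mod_cast h5
    rw [eq_comm, Real.sqrt_eq_iff_mul_self_eq (by norm_num) (by positivity)]
    push_cast
    rw [abs_mul_abs_self]
    field_simp
    linarith
  subst hn
  exact ⟨by simpa using h, rfl⟩

theorem phiLift_injective {C : Type*} [Ring C] [CharZero C] (f : C) (hf : f * f = f + 1) :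
    Function.Injective (phiLift f hf) := by
  rw [injective_iff_map_eq_zero]
  intro z hz
  have h1 : phiLift f hf (z * ⟨z.re + z.im, -z.im⟩) = 0 := by rw [map_mul, hz, zero_mul]
  have h2 : z * ⟨z.re + z.im, -z.im⟩ = ⟨z.re * z.re + z.re * z.im - z.im * z.im, 0⟩ := by
    ext <;> simp <;> ring
  rw [h2, phiLift_apply] at h1
  simp only [Int.cast_zero, zero_mul, add_zero, Int.cast_eq_zero] at h1
  obtain ⟨h3, h4⟩ := int_norm_form_eq_zero h1
  ext <;> simp [h3, h4]

instance instIsDomainZPhi : IsDomain ZPhi :=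
  (phiLift_injective Real.goldenRatio (by rw [← sq, Real.goldenRatio_sq])).isDomain _

/-- The splitting of the quaternions modulo five. -/
def toMat : Quat (ZMod 5) →+* Matrix (Fin 2) (Fin 2) (ZMod 5) where
  toFun x := !![x.re + 2 * x.i, x.j + 2 * x.k; -x.j + 2 * x.k, x.re - 2 * x.i]
  map_one' := by ext i j; fin_cases i <;> fin_cases j <;> simp
  map_zero' := by ext i j; fin_cases i <;> fin_cases j <;> simp
  map_add' x y := by ext i j; fin_cases i <;> fin_cases j <;> simp <;> ring
  map_mul' x y := by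
    have h5 : (5 : ZMod 5) = 0 := rfl
    ext i j
    fin_cases i <;> fin_cases j <;> simp [Matrix.mul_apply, Fin.sum_univ_two]
    · linear_combination (-x.i * y.i - x.k * y.k) * h5
    · linear_combination (-x.i * y.k + x.k * y.i) * h5
    · linear_combination (x.i * y.k - x.k * y.i) * h5
    · linear_combination (-x.i * y.i - x.k * y.k) * h5

theorem toMat_apply (x : Quat (ZMod 5)) :
    toMat x = !![x.re + 2 * x.i, x.j + 2 * x.k; -x.j + 2 * x.k, x.re - 2 * x.i] := rfl

theorem det_toMat (x : Quat (ZMod 5)) : (toMat x).det = nrm x := by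
  have h5 : (5 : ZMod 5) = 0 := rfl
  rw [toMat_apply, Matrix.det_fin_two_of, nrm]
  linear_combination (-x.i * x.i - x.k * x.k) * h5

/-- Reduction of the icosians modulo `√5`. -/
def icosRed : Quat ZPhi →+* Matrix (Fin 2) (Fin 2) (ZMod 5) :=
  toMat.comp (Quat.map (phiLift 3 (by decide)))

theorem det_icosRed (y : Quat ZPhi) : (icosRed y).det = phiLift (3 : ZMod 5) (by decide) (nrm y) := by
  rw [← nrm_map, ← det_toMat]; rfl

open Matrix MatrixGroups

/-- First generator of `SL(2,5)`. -/
def genA : SL(2, ZMod 5) := ⟨!![3, 4; 3, 1], by decide⟩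

/-- Second generator of `SL(2,5)`. -/
def genB : SL(2, ZMod 5) := ⟨!![2, 4; 2, 2], by decide⟩

theorem transvection_eq_gen₁ : ∀ c : ZMod 5,
    SpecialLinearGroup.transvection (zero_ne_one' (Fin 2)) c =
      (genA * genA * genB) ^ (2 * (2 * c).val) := by decide

theorem transvection_eq_gen₂ : ∀ c : ZMod 5,
    SpecialLinearGroup.transvection (zero_ne_one' (Fin 2)).symm c =
      (genA * genB) ^ (2 * (4 * c).val) := by decide

theorem eq_top_of_gen {H : Subgroup SL(2, ZMod 5)} (hA : genA ∈ H) (hB : genB ∈ H) : H = ⊤ := by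
  have : Fact (Nat.Prime 5) := ⟨by norm_num⟩
  refine eq_top_iff.2 fun M _ => SL2.transvection_induction (· ∈ H) (fun i j h c => ?_)
    (fun _ _ => mul_mem) M
  fin_cases i <;> fin_cases j
  · exact absurd rfl h
  · exact transvection_eq_gen₁ c ▸ pow_mem (mul_mem (mul_mem hA hA) hB) _
  · exact transvection_eq_gen₂ c ▸ pow_mem (mul_mem hA hB) _
  · exact absurd rfl h

end Cfsg.Agent.Schur
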