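import Mathlib
import Cfsg.Agent.Lib.Schur.Icosian
import Cfsg.Agent.Lib.Core.Component

/-!
Facts about `SL(2,5)`.
-/

namespace Cfsg.Agent.Schur

open Subgroup Matrix MatrixGroups

/-- `SL(2,5)` as a set of quadruples. -/
def equivSL5 : SL(2, ZMod 5) ≃
    {x : ZMod 5 × ZMod 5 × ZMod 5 × ZMod 5 // x.1 * x.2.2.2 - x.2.1 * x.2.2.1 = 1} where
  toFun M := ⟨(M.1 0 0, M.1 0 1, M.1 1 0, M.1 1 1), by rw [← det_fin_two]; exact M.2⟩
  invFun x := ⟨!![x.1.1, x.1.2.1; x.1.2.2.1, x.1.2.2.2], by rw [det_fin_two_of]; exact x.2⟩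
  left_inv M := Subtype.ext (eta_fin_two M.1).symm
  right_inv _ := rfl

theorem card_SL5 : Nat.card SL(2, ZMod 5) = 120 := by
  rw [Nat.card_congr equivSL5, Nat.card_eq_fintype_card]
  decide +kernel

theorem card_order_three_SL5 : Nat.card {x : SL(2, ZMod 5) // orderOf x = 3} = 20 := by
  have : Fact (Nat.Prime 3) := ⟨by norm_num⟩
  rw [Nat.card_congr (Equiv.subtypeEquiv equivSL5 (q := fun x =>
    equivSL5.symm x ^ 3 = 1 ∧ equivSL5.symm x ≠ 1) fun x => by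
      rw [Equiv.symm_apply_apply, orderOf_eq_prime_iff]), Nat.card_eq_fintype_card]
  decide +kernel

theorem isQuasisimple_SL5 : IsQuasisimple SL(2, ZMod 5) :=
  have h1 : (2 : ZMod 5) ≠ 0 := by decide
  have h2 : (2 : ZMod 5) ^ 2 ≠ 1 := by decide
  have : Fact (Nat.Prime 5) := ⟨by norm_num⟩
  ⟨⟨SL2.commutator_eq_top h1 h2⟩, ProjectiveSpecialLinearGroup.rank_two_simple' ⟨2, h1, h2⟩⟩

/-- The central involution. -/
def negSL5 : SL(2, ZMod 5) := ⟨!![4, 0; 0, 4], by decide⟩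

theorem card_center_SL5_le : Nat.card (center SL(2, ZMod 5)) ≤ 2 := by
  have h0 : ∀ x : SL(2, ZMod 5), genA * x = x * genA → genB * x = x * genB → x = 1 ∨ x = negSL5 := by
    rw [equivSL5.symm.surjective.forall]
    decide +kernel
  have h : (center SL(2, ZMod 5) : Set SL(2, ZMod 5)) ⊆ {1, negSL5} := fun x hx =>
    h0 x (Subgroup.mem_center_iff.1 hx _) (Subgroup.mem_center_iff.1 hx _)
  exact (Set.ncard_le_ncard h).trans ((Set.ncard_insert_le _ _).trans (by simp))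

/-- The quaternion subgroup of `SL(2,5)`. -/
def quatSL5 : Subgroup SL(2, ZMod 5) where
  carrier := {M | (M.1 0 1 = 0 ∧ M.1 1 0 = 0) ∨ (M.1 0 0 = 0 ∧ M.1 1 1 = 0)}
  one_mem' := by decide
  mul_mem' := by
    rintro a b (⟨h1, h2⟩ | ⟨h1, h2⟩) (⟨h3, h4⟩ | ⟨h3, h4⟩) <;>
      simp [Matrix.mul_apply, Fin.sum_univ_two, *]
  inv_mem' := by
    rintro a (⟨h1, h2⟩ | ⟨h1, h2⟩) <;> simp [adjugate_fin_two, *]

instance instDecidablePredQuatSL5 : DecidablePred (· ∈ quatSL5) := fun M =>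
  inferInstanceAs (Decidable ((M.1 0 1 = 0 ∧ M.1 1 0 = 0) ∨ (M.1 0 0 = 0 ∧ M.1 1 1 = 0)))

theorem card_quatSL5 : Nat.card quatSL5 = 8 := by
  rw [Nat.card_congr (Equiv.subtypeEquiv equivSL5 (q := fun x => equivSL5.symm x ∈ quatSL5)
    fun x => by rw [Equiv.symm_apply_apply]), Nat.card_eq_fintype_card]
  decide +kernel

theorem card_sylow_two_SL5 : Nat.card (Sylow 2 SL(2, ZMod 5)) = 5 := by
  let Q : Sylow 2 SL(2, ZMod 5) := Sylow.ofCard quatSL5 (by
    rw [card_quatSL5, card_SL5, show 120 = 2 ^ 3 * 15 by norm_num,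
      Nat.factorization_mul_apply_of_coprime (by norm_num), Nat.factorization_pow_self Nat.prime_two,
      Nat.factorization_eq_zero_of_not_dvd (by norm_num)]
    rfl)
  rw [Q.card_eq_index_normalizer]
  have hA : genA ∈ normalizer (quatSL5 : Set SL(2, ZMod 5)) := by
    rw [mem_normalizer_iff]
    rw [equivSL5.symm.surjective.forall]
    decide +kernel
  have hB : genB ∉ normalizer (quatSL5 : Set SL(2, ZMod 5)) := fun h =>
    absurd ((mem_normalizer_iff.1 h ⟨!![2, 0; 0, 3], by decide⟩).1 (Or.inl (by decide)))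
      (by decide)
  have h3 : 3 ∣ Nat.card (normalizer (quatSL5 : Set SL(2, ZMod 5))) := by
    have : Fact (Nat.Prime 3) := ⟨by norm_num⟩
    have h : orderOf genA = 3 := orderOf_eq_prime (by decide) (by decide)
    rw [← h]
    exact orderOf_dvd_natCard _ hA
  have h8 : 8 ∣ Nat.card (normalizer (quatSL5 : Set SL(2, ZMod 5))) :=
    card_quatSL5 ▸ card_dvd_of_le le_normalizer
  obtain ⟨k, hk⟩ := Nat.Coprime.mul_dvd_of_dvd_of_dvd (by norm_num) h3 h8
  have h := (normalizer (quatSL5 : Set SL(2, ZMod 5))).card_mul_index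
  rw [card_SL5, hk] at h
  have h5 : (normalizer (quatSL5 : Set SL(2, ZMod 5))).index ∣ 5 := ⟨k, by linarith⟩
  refine ((Nat.dvd_prime (by norm_num)).1 h5).resolve_left fun e => hB ?_
  rw [index_eq_one.1 e]
  trivial

theorem exists_order_four_SL5 : ∃ i j : SL(2, ZMod 5), i ^ 4 = 1 ∧ i ^ 2 ≠ 1 ∧ i * j ≠ j * i ∧
    i ^ 2 * j = j * i ^ 2 :=
  ⟨⟨!![2, 0; 0, 3], by decide⟩, genA, by decide, by decide, by decide, by decide⟩

end Cfsg.Agent.Schur
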