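import Mathlib
import Cfsg.Prelude.Def_KGroupFacts

/-!
Central extensions: elementary facts used for the Schur multiplier.
-/

set_option autoImplicit false

namespace Cfsg.Agent.Schur

open Subgroup Function
open scoped commutatorElement

universe u v w

section General

variable {E : Type u} {X : Type v} {Q : Type w} [Group E] [Group X] [Group Q]

theorem commutatorElement_mul_central {G : Type*} [Group G] (a b z w : G)
    (hz : z ∈ center G) (hw : w ∈ center G) : ⁅a * z, b * w⁆ = ⁅a, b⁆ := by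
  have hz' := Subgroup.mem_center_iff.mp hz
  have hw' := Subgroup.mem_center_iff.mp hw
  have hzi := Subgroup.mem_center_iff.mp (inv_mem hz)
  have hwi := Subgroup.mem_center_iff.mp (inv_mem hw)
  simp only [commutatorElement_def, mul_inv_rev]
  calc a * z * (b * w) * (z⁻¹ * a⁻¹) * (w⁻¹ * b⁻¹)
      = a * (z * (b * w) * z⁻¹) * (a⁻¹ * w⁻¹) * b⁻¹ := by group
    _ = a * (b * w) * (w⁻¹ * a⁻¹) * b⁻¹ := by
      rw [← hz' (b * w), hwi a⁻¹]; group
    _ = a * b * a⁻¹ * b⁻¹ := by group

/-- If `ξ` has central kernel, commutators only depend on the images under `ξ`. -/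
theorem commutatorElement_eq_of_map_eq (ξ : X →* Q) (hc : ξ.ker ≤ center X) {a a' b b' : X}
    (ha : ξ a = ξ a') (hb : ξ b = ξ b') : ⁅a, b⁆ = ⁅a', b'⁆ := by
  have h1 : a⁻¹ * a' ∈ center X := hc (by simp [MonoidHom.mem_ker, ha])
  have h2 : b⁻¹ * b' ∈ center X := hc (by simp [MonoidHom.mem_ker, hb])
  rw [← commutatorElement_mul_central a b _ _ h1 h2]; simp

/-- A homomorphism over `Q` into a central extension is onto on commutator subgroups. -/
theorem map_commutator_eq_of_comp (ε : E →* Q) (hε : Surjective ε) (ξ : X →* Q)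
    (hc : ξ.ker ≤ center X) (φ : E →* X) (hφ : ξ.comp φ = ε) :
    (commutator E).map φ = commutator X := by
  apply le_antisymm
  · rw [map_commutator_eq]
    exact commutator_mono le_top le_top
  · rw [commutator_def X, commutator_le]
    intro a _ b _
    obtain ⟨a', ha'⟩ := hε (ξ a)
    obtain ⟨b', hb'⟩ := hε (ξ b)
    refine ⟨⁅a', b'⁆, commutator_mem_commutator (mem_top _) (mem_top _), ?_⟩
    rw [map_commutatorElement]
    apply commutatorElement_eq_of_map_eq ξ hc
    · rw [← ha', ← hφ]; rfl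
    · rw [← hb', ← hφ]; rfl

theorem map_ker_inf_commutator_eq (ε : E →* Q) (hε : Surjective ε) (ξ : X →* Q)
    (hc : ξ.ker ≤ center X) (φ : E →* X) (hφ : ξ.comp φ = ε) :
    (ε.ker ⊓ commutator E).map φ = ξ.ker ⊓ commutator X := by
  have h := map_commutator_eq_of_comp ε hε ξ hc φ hφ
  have h2 : ∀ e, ξ (φ e) = ε e := fun e => by rw [← hφ]; rfl
  ext x
  constructor
  · rintro ⟨e, ⟨he1, he2⟩, rfl⟩
    refine ⟨?_, h ▸ mem_map_of_mem φ he2⟩
    have : ε e = 1 := he1
    show ξ (φ e) = 1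
    rw [h2, this]
  · rintro ⟨hx1, hx2⟩
    rw [← h] at hx2
    obtain ⟨e, he, rfl⟩ := hx2
    refine ⟨e, ⟨?_, he⟩, rfl⟩
    show ε e = 1
    rw [← h2]; exact hx1

/-- The induced surjection between the groups `ker ⊓ commutator`. -/
theorem exists_surjective_ker_inf_commutator (ε : E →* Q) (hε : Surjective ε) (ξ : X →* Q)
    (hc : ξ.ker ≤ center X) (φ : E →* X) (hφ : ξ.comp φ = ε) :
    ∃ π : ↥(ε.ker ⊓ commutator E) →* ↥(ξ.ker ⊓ commutator X), Surjective π ∧
      ∀ x, (π x : X) = φ x := by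
  have h := map_ker_inf_commutator_eq ε hε ξ hc φ hφ
  refine ⟨(φ.comp (Subgroup.subtype _)).codRestrict _ (fun x => h ▸ mem_map_of_mem φ x.2), ?_,
    fun x => rfl⟩
  rintro ⟨y, hy⟩
  rw [← h] at hy
  obtain ⟨x, hx, rfl⟩ := hy
  exact ⟨⟨x, hx⟩, rfl⟩

/-- A homomorphism over `Q` into a stem extension is surjective. -/
theorem surjective_of_comp_stem (ε : E →* Q) (hε : Surjective ε) (ξ : X →* Q)
    (hξ : IsStemExtension ξ) (φ : E →* X) (hφ : ξ.comp φ = ε) : Surjective φ := by
  have h := map_commutator_eq_of_comp ε hε ξ hξ.2.1 φ hφ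
  intro x
  obtain ⟨e, he⟩ := hε (ξ x)
  have h2 : ξ (φ e) = ε e := by rw [← hφ]; rfl
  have : (φ e)⁻¹ * x ∈ commutator X := hξ.2.2 (by simp [MonoidHom.mem_ker, h2, he])
  rw [← h] at this
  obtain ⟨e', -, he'⟩ := this
  exact ⟨e * e', by rw [map_mul, he']; group⟩

/-- Schur: a central extension of a finite group has a finite commutator subgroup. -/
theorem finite_commutator_of_central [Finite Q] (ε : E →* Q) (hc : ε.ker ≤ center E) :
    Finite (commutator E) := by
  classical
  have : Finite (commutatorSet E) := by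
    let s : Q → E := fun q => if h : ∃ e, ε e = q then h.choose else 1
    have hs : ∀ e, ε (s (ε e)) = ε e := fun e => by
      have h : ∃ e', ε e' = ε e := ⟨e, rfl⟩
      simp only [s, dif_pos h]
      exact h.choose_spec
    have : commutatorSet E ⊆ Set.range (fun p : Q × Q => ⁅s p.1, s p.2⁆) := by
      rintro _ ⟨a, b, rfl⟩
      exact ⟨(ε a, ε b), commutatorElement_eq_of_map_eq ε hc (hs a) (hs b)⟩
    exact ((Set.finite_range _).subset this).to_subtype
  infer_instance

theorem finite_ker_inf_commutator [Finite Q] (ε : E →* Q) (hc : ε.ker ≤ center E) :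
    Finite ↥(ε.ker ⊓ commutator E) := by
  have := finite_commutator_of_central ε hc
  exact Finite.of_injective (Subgroup.inclusion (inf_le_right : ε.ker ⊓ commutator E ≤ _))
    (Subgroup.inclusion_injective _)

theorem isMulCommutative_of_le_center {G : Type*} [Group G] {H : Subgroup G}
    (h : H ≤ center G) : IsMulCommutative H :=
  ⟨⟨fun a b => Subtype.ext (Subgroup.mem_center_iff.mp (h b.2) a)⟩⟩

theorem normal_of_le_center {G : Type*} [Group G] {H : Subgroup G}
    (h : H ≤ center G) : H.Normal :=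
  ⟨fun a ha g => by
    rw [Subgroup.mem_center_iff.mp (h ha) g]; simpa using ha⟩

theorem finite_of_finite_ker [Finite Q] (ε : E →* Q) [Finite ε.ker] : Finite E := by
  have : Finite (E ⧸ ε.ker) :=
    Finite.of_injective _ (QuotientGroup.kerLift_injective ε)
  exact Finite.of_subgroup_quotient ε.ker

/-- Factoring a complement of `ker ⊓ commutator` out of a central extension gives a stem
extension. -/
theorem stem_of_complement (ε : E →* Q) (hε : Surjective ε) (hc : ε.ker ≤ center E)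
    (S : Subgroup E) [S.Normal] (hS : S ≤ ε.ker) (h1 : S ⊓ commutator E = ⊥)
    (h2 : ε.ker ≤ S ⊔ (ε.ker ⊓ commutator E)) :
    IsStemExtension (QuotientGroup.lift S ε hS) ∧
      Nonempty ((QuotientGroup.lift S ε hS).ker ≃* ↥(ε.ker ⊓ commutator E)) := by
  set σ := QuotientGroup.lift S ε hS with hσ
  have hcomp : σ.comp (QuotientGroup.mk' S) = ε := by ext; rfl
  have hσc : σ.ker ≤ center _ := by
    intro x hx
    obtain ⟨e, rfl⟩ := QuotientGroup.mk'_surjective S x
    have he : e ∈ center E := hc hx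
    rw [Subgroup.mem_center_iff] at he ⊢
    intro g
    obtain ⟨g, rfl⟩ := QuotientGroup.mk'_surjective S g
    rw [← map_mul, ← map_mul, he]
  have hker : σ.ker ≤ commutator _ := by
    intro x hx
    obtain ⟨e, rfl⟩ := QuotientGroup.mk'_surjective S x
    have he : e ∈ S ⊔ (ε.ker ⊓ commutator E) := h2 hx
    rw [← SetLike.mem_coe, normal_mul] at he
    obtain ⟨s, hs, m, hm, rfl⟩ := he
    have : QuotientGroup.mk' S s = 1 := (QuotientGroup.eq_one_iff s).mpr hs
    rw [map_mul, this, one_mul, ← map_commutator_eq_of_comp ε hε σ hσc _ hcomp]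
    exact mem_map_of_mem _ hm.2
  refine ⟨⟨?_, hσc, hker⟩, ?_⟩
  · intro q
    obtain ⟨e, rfl⟩ := hε q
    exact ⟨QuotientGroup.mk' S e, rfl⟩
  · obtain ⟨π, hπ, hπ'⟩ := exists_surjective_ker_inf_commutator ε hε σ hσc _ hcomp
    have hinj : Injective π := by
      rw [injective_iff_map_eq_one]
      intro a ha
      have h3 : QuotientGroup.mk' S a = 1 := by rw [← hπ' a, ha]; rfl
      have h4 : (a : E) ∈ S ⊓ commutator E := ⟨(QuotientGroup.eq_one_iff _).mp h3, a.2.2⟩
      rw [h1] at h4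
      exact Subtype.ext h4
    exact ⟨(MulEquiv.subgroupCongr (inf_eq_left.mpr hker).symm).trans
      (MulEquiv.ofBijective π ⟨hinj, hπ⟩).symm⟩

theorem IsStemExtension.comp_equiv {ξ : X →* Q} (hξ : IsStemExtension ξ) (e : E ≃* X) :
    IsStemExtension (ξ.comp e.toMonoidHom) ∧
      Nonempty ((ξ.comp e.toMonoidHom).ker ≃* ξ.ker) := by
  have hs : Surjective (ξ.comp e.toMonoidHom) := hξ.1.comp e.surjective
  refine ⟨⟨hs, ?_, ?_⟩, ⟨?_⟩⟩
  · intro x hx
    have : e x ∈ center X := hξ.2.1 hx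
    rw [Subgroup.mem_center_iff] at this ⊢
    intro g
    apply e.injective
    rw [map_mul, map_mul, this]
  · intro x hx
    have : e x ∈ commutator X := hξ.2.2 hx
    rw [← map_commutator_eq_of_comp _ hs ξ hξ.2.1 e.toMonoidHom rfl] at this
    obtain ⟨y, hy, hyx⟩ := this
    rwa [← e.injective hyx]
  · exact
      { toFun := fun x => ⟨e x, x.2⟩
        invFun := fun y => ⟨e.symm y, by
          show ξ (e (e.symm y)) = 1
          rw [e.apply_symm_apply]; exact y.2⟩
        left_inv := fun x => Subtype.ext (e.symm_apply_apply x)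
        right_inv := fun y => Subtype.ext (e.apply_symm_apply y)
        map_mul' := fun x y => Subtype.ext (map_mul e (x : E) y) }

theorem IsStemExtension.equiv_comp {ξ : X →* Q} (hξ : IsStemExtension ξ) {Q' : Type*} [Group Q']
    (e : Q ≃* Q') : IsStemExtension (e.toMonoidHom.comp ξ) ∧
      (e.toMonoidHom.comp ξ).ker = ξ.ker := by
  have hk : (e.toMonoidHom.comp ξ).ker = ξ.ker := by
    ext x; simp [MonoidHom.mem_ker]
  exact ⟨⟨e.surjective.comp hξ.1, hk ▸ hξ.2.1, hk ▸ hξ.2.2⟩, hk⟩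

theorem isStemExtension_id : IsStemExtension (MonoidHom.id Q) :=
  ⟨surjective_id, by simp, by simp⟩

/-- A finite stem extension can be moved to any universe. -/
theorem exists_stem_universe [Finite X] {ξ : X →* Q} (hξ : IsStemExtension ξ) :
    ∃ (Γ : Type u) (_ : Group Γ) (_ : Finite Γ) (e : Γ ≃* X),
      IsStemExtension (ξ.comp e.toMonoidHom) ∧ Nonempty ((ξ.comp e.toMonoidHom).ker ≃* ξ.ker) := by
  refine ⟨Shrink.{u} X, inferInstance, Finite.of_equiv _ (equivShrink.{u} X), Shrink.mulEquiv,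
    IsStemExtension.comp_equiv hξ _⟩

end General

section Multiplier

variable {Q : Type u} [Group Q] {A : Type v} [CommGroup A]

theorem finite_mult (h : HasSchurMultiplier Q A) : Finite A := by
  obtain ⟨⟨Γ, _, _, σ, -, ⟨e⟩⟩, -⟩ := h
  exact Finite.of_equiv _ e.toEquiv

theorem finite_base (h : HasSchurMultiplier Q A) : Finite Q := by
  obtain ⟨⟨Γ, _, _, σ, hσ, -⟩, -⟩ := h
  exact Finite.of_surjective _ hσ.1

/-- The universal half of `HasSchurMultiplier`, in any universe. -/
theorem exists_surjective_of_stem (h : HasSchurMultiplier Q A) {Γ : Type w} [Group Γ] [Finite Γ]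
    (σ : Γ →* Q) (hσ : IsStemExtension σ) : ∃ π : A →* σ.ker, Surjective π := by
  obtain ⟨Δ, _, _, e, h1, ⟨f⟩⟩ := exists_stem_universe.{u} hσ
  obtain ⟨π, hπ⟩ := h.2 Δ _ h1
  exact ⟨f.toMonoidHom.comp π, f.surjective.comp hπ⟩

theorem hasSchurMultiplier_mk {Γ : Type w} [Group Γ] [Finite Γ] (σ : Γ →* Q)
    (hσ : IsStemExtension σ) (hk : Nonempty (σ.ker ≃* A))
    (h : ∀ (Δ : Type u) [Group Δ] [Finite Δ] (τ : Δ →* Q), IsStemExtension τ →
      ∃ π : A →* τ.ker, Surjective π) : HasSchurMultiplier Q A := by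
  obtain ⟨Δ, _, _, e, h1, ⟨f⟩⟩ := exists_stem_universe.{u} hσ
  exact ⟨⟨Δ, _, inferInstance, _, h1, ⟨f.trans hk.some⟩⟩, h⟩

theorem nonempty_mulEquiv_of_surjective {A B : Type*} [Group A] [Group B] [Finite A]
    (f : A →* B) (hf : Surjective f) (g : B →* A) (hg : Surjective g) : Nonempty (A ≃* B) := by
  have h : Injective (g.comp f) := Finite.injective_iff_surjective.mpr (hg.comp hf)
  exact ⟨MulEquiv.ofBijective f ⟨Injective.of_comp h, hf⟩⟩

theorem mult_unique {B : Type w} [CommGroup B] (hA : HasSchurMultiplier Q A)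
    (hB : HasSchurMultiplier Q B) : Nonempty (A ≃* B) := by
  have := finite_mult hA
  obtain ⟨Γ, _, _, σ, hσ, ⟨e⟩⟩ := hA.1
  obtain ⟨Δ, _, _, τ, hτ, ⟨f⟩⟩ := hB.1
  obtain ⟨π, hπ⟩ := hA.2 Δ τ hτ
  obtain ⟨ρ, hρ⟩ := hB.2 Γ σ hσ
  exact nonempty_mulEquiv_of_surjective (f.toMonoidHom.comp π) (f.surjective.comp hπ)
    (e.toMonoidHom.comp ρ) (e.surjective.comp hρ)

theorem mult_congr {Q' : Type w} [Group Q'] {B : Type*} [CommGroup B]
    (hA : HasSchurMultiplier Q A) (e : Q ≃* Q') (f : A ≃* B) : HasSchurMultiplier Q' B := by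
  obtain ⟨Γ, _, _, σ, hσ, ⟨g⟩⟩ := hA.1
  obtain ⟨h1, h2⟩ := IsStemExtension.equiv_comp hσ e
  refine hasSchurMultiplier_mk _ h1 ⟨(MulEquiv.subgroupCongr h2).trans (g.trans f)⟩ ?_
  intro Δ _ _ τ hτ
  obtain ⟨h3, h4⟩ := IsStemExtension.equiv_comp hτ e.symm
  obtain ⟨π, hπ⟩ := exists_surjective_of_stem hA _ h3
  exact ⟨(MulEquiv.subgroupCongr h4).toMonoidHom.comp (π.comp f.symm.toMonoidHom),
    (MulEquiv.subgroupCongr h4).surjective.comp (hπ.comp f.symm.surjective)⟩

end Multiplier

end Cfsg.Agent.Schur
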