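import Mathlib
import Cfsg.Prelude.Def_KGroupFacts
import Cfsg.Agent.Lib.Schur.Basic

/-!
Hopf's formula: for a presentation `F → Q` of a finite group by a finitely generated free group with
kernel `R`, the Schur multiplier is `(R ⊓ F') / [R, F]`.
-/

set_option autoImplicit false

namespace Cfsg.Agent.Schur

open Subgroup Function
open scoped commutatorElement IsMulCommutative

universe u v w

/-- A surjection onto a finitely generated torsion-free abelian group splits. -/
theorem exists_section_of_torsionFree {K L : Type*} [CommGroup K] [CommGroup L] [Group.FG L]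
    (hL : ∀ (x : L) (n : ℕ), n ≠ 0 → x ^ n = 1 → x = 1) (f : K →* L) (hf : Surjective f) :
    ∃ s : L →* K, f.comp s = MonoidHom.id L := by
  have : Module.Finite ℤ (Additive L) := Module.Finite.iff_addGroup_fg.mpr inferInstance
  have : IsMulTorsionFree L := ⟨fun n hn a b hab => by
    have : (a * b⁻¹) ^ n = 1 := by
      have hab' : a ^ n = b ^ n := hab
      rw [mul_pow, inv_pow, hab', mul_inv_cancel]
    exact mul_inv_eq_one.mp (hL _ n hn this)⟩
  obtain ⟨h, hh⟩ := Module.projective_lifting_property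
    (MonoidHom.toAdditive f).toIntLinearMap (LinearMap.id (R := ℤ) (M := Additive L)) hf
  refine ⟨MonoidHom.toAdditive.symm h.toAddMonoidHom, ?_⟩
  ext x
  exact LinearMap.congr_fun hh (Additive.ofMul x)

section General

variable {E : Type u} {Q : Type w} [Group E] [Group Q]

/-- In a finitely generated central extension of a finite group with torsion-free abelianization,
`ker ⊓ commutator` has a complement in the kernel, inside any supplement `K`. -/
theorem exists_complement [Finite Q] [Group.FG E] (ε : E →* Q) (hc : ε.ker ≤ center E)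
    (htf : ∀ (x : E) (n : ℕ), n ≠ 0 → x ^ n ∈ commutator E → x ∈ commutator E)
    (K : Subgroup E) (hK : K ≤ ε.ker) (hK2 : ε.ker ≤ K ⊔ (ε.ker ⊓ commutator E)) :
    ∃ S : Subgroup E, S ≤ K ∧ S ⊓ commutator E = ⊥ ∧ ε.ker ≤ S ⊔ (ε.ker ⊓ commutator E) := by
  have : IsMulCommutative K := isMulCommutative_of_le_center (hK.trans hc)
  have : K.Normal := normal_of_le_center (hK.trans hc)
  have : ε.ker.FiniteIndex := Subgroup.finiteIndex_ker ε
  let g : K →* Abelianization E := Abelianization.of.comp K.subtype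
  have hrange : g.range = (Abelianization.of.comp ε.ker.subtype).range := by
    apply le_antisymm
    · rintro _ ⟨k, rfl⟩
      exact ⟨⟨k, hK k.2⟩, rfl⟩
    · rintro _ ⟨z, rfl⟩
      have hz := hK2 z.2
      rw [← SetLike.mem_coe, normal_mul] at hz
      obtain ⟨k, hk, m, hm, hkm⟩ := hz
      refine ⟨⟨k, hk⟩, ?_⟩
      have hm1 : Abelianization.of m = 1 := by
        rw [← MonoidHom.mem_ker, Abelianization.ker_of]; exact hm.2
      show Abelianization.of k = Abelianization.of (z : E)
      rw [← hkm, map_mul, hm1, mul_one]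
  have : Group.FG g.range := by rw [hrange]; infer_instance
  obtain ⟨s, hs⟩ := exists_section_of_torsionFree (K := K) (L := g.range) (by
    rintro ⟨x, hx⟩ n hn h
    obtain ⟨x, rfl⟩ := QuotientGroup.mk'_surjective (commutator E) x
    have h' : (QuotientGroup.mk' (commutator E) (x ^ n)) = 1 := by
      rw [map_pow]; exact congrArg Subtype.val h
    exact Subtype.ext ((QuotientGroup.eq_one_iff _).mpr
      (htf x n hn ((QuotientGroup.eq_one_iff _).mp h')))) g.rangeRestrict
      g.rangeRestrict_surjective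
  have hs' : ∀ l, g (s l) = l := fun l => congrArg Subtype.val (DFunLike.congr_fun hs l)
  refine ⟨s.range.map K.subtype, map_subtype_le _, ?_, ?_⟩
  · rw [eq_bot_iff]
    rintro _ ⟨⟨_, ⟨l, rfl⟩, rfl⟩, h2⟩
    have : g (s l) = 1 := by
      rw [← Abelianization.ker_of] at h2; exact h2
    rw [hs'] at this
    have : l = 1 := Subtype.ext this
    simp [this]
  · refine hK2.trans (sup_le ?_ le_sup_right)
    intro k hk
    let l : g.range := g.rangeRestrict ⟨k, hk⟩
    have h1 : ((s l : K) : E) ∈ s.range.map K.subtype := mem_map_of_mem _ ⟨l, rfl⟩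
    have h2 : ((s l : K) : E)⁻¹ * k ∈ ε.ker ⊓ commutator E := by
      refine ⟨ε.ker.mul_mem (ε.ker.inv_mem (hK (s l).2)) (hK hk), ?_⟩
      rw [← Abelianization.ker_of]
      show Abelianization.of _ = 1
      rw [map_mul, map_inv, inv_mul_eq_one]
      exact hs' l
    have : k = ((s l : K) : E) * (((s l : K) : E)⁻¹ * k) := by group
    rw [this]
    exact mul_mem_sup h1 h2

end General

section Hopf

variable {F : Type u} {Q : Type w} [Group F] [Group Q]

/-- The central extension `F / [R, F]`. -/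
abbrev HopfExt (π : F →* Q) : Type u := F ⧸ ⁅π.ker, (⊤ : Subgroup F)⁆

/-- The projection `F / [R, F] → Q`. -/
def hopfMap (π : F →* Q) : HopfExt π →* Q :=
  QuotientGroup.lift _ π (commutator_le_left _ _)

@[simp] theorem hopfMap_mk (π : F →* Q) (x : F) : hopfMap π (QuotientGroup.mk x) = π x := rfl

theorem hopfMap_surjective (π : F →* Q) (hπ : Surjective π) : Surjective (hopfMap π) := by
  intro q
  obtain ⟨x, rfl⟩ := hπ q
  exact ⟨QuotientGroup.mk x, rfl⟩

theorem hopfMap_ker_le_center (π : F →* Q) : (hopfMap π).ker ≤ center _ := by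
  intro x hx
  obtain ⟨x, rfl⟩ := QuotientGroup.mk_surjective x
  rw [Subgroup.mem_center_iff]
  intro g
  obtain ⟨g, rfl⟩ := QuotientGroup.mk_surjective g
  rw [← QuotientGroup.mk_mul, ← QuotientGroup.mk_mul, QuotientGroup.eq]
  have : (g * x)⁻¹ * (x * g) = ⁅x⁻¹, g⁻¹⁆ := by simp [commutatorElement_def, mul_assoc]
  rw [this]
  exact commutator_mem_commutator (inv_mem hx) (mem_top _)

/-- Hopf's multiplier `(R ⊓ F') / [R, F]`. -/
abbrev hopfMult (π : F →* Q) : Subgroup (HopfExt π) := (hopfMap π).ker ⊓ commutator (HopfExt π)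

instance hopfKer_isMulCommutative (π : F →* Q) : IsMulCommutative (hopfMap π).ker :=
  isMulCommutative_of_le_center (hopfMap_ker_le_center π)

instance hopfMult_isMulCommutative (π : F →* Q) : IsMulCommutative (hopfMult π) :=
  isMulCommutative_of_le_center (inf_le_left.trans (hopfMap_ker_le_center π))

theorem exists_lift_of_isFreeGroup [IsFreeGroup F] (π : F →* Q) {X : Type v} [Group X]
    (ξ : X →* Q) (hξ : Surjective ξ) : ∃ φ : F →* X, ξ.comp φ = π := by
  choose s hs using hξ
  refine ⟨IsFreeGroup.lift (fun a => s (π (IsFreeGroup.of a))), ?_⟩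
  apply IsFreeGroup.ext_hom
  intro a
  simp [hs]

theorem exists_hopf_lift [IsFreeGroup F] (π : F →* Q) {X : Type v} [Group X]
    (ξ : X →* Q) (hξ : Surjective ξ) (hc : ξ.ker ≤ center X) :
    ∃ φ : HopfExt π →* X, ξ.comp φ = hopfMap π := by
  obtain ⟨φ, hφ⟩ := exists_lift_of_isFreeGroup π ξ hξ
  refine ⟨QuotientGroup.lift _ φ ?_, ?_⟩
  · rw [commutator_le]
    intro r hr g _
    have : φ r ∈ center X := hc (by
      show ξ (φ r) = 1
      rw [← MonoidHom.comp_apply, hφ]; exact hr)
    rw [MonoidHom.mem_ker, map_commutatorElement, commutatorElement_eq_one_iff_mul_comm]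
    exact (Subgroup.mem_center_iff.mp this _).symm
  · ext x
    exact DFunLike.congr_fun hφ x

theorem mem_commutator_of_pow_mem_freeGroup {α : Type u} (x : FreeGroup α) (n : ℕ) (hn : n ≠ 0)
    (h : x ^ n ∈ commutator (FreeGroup α)) : x ∈ commutator (FreeGroup α) := by
  rw [← Abelianization.ker_of, MonoidHom.mem_ker] at h ⊢
  rw [map_pow] at h
  let y : FreeAbelianGroup α := Additive.ofMul (Abelianization.of x)
  have hy : (n : ℤ) • y = 0 := by
    rw [natCast_zsmul]; exact h
  have : y = 0 := (smul_eq_zero.mp hy).resolve_left (by exact_mod_cast hn)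
  exact this

theorem mem_commutator_of_pow_mem [IsFreeGroup F] (x : F) (n : ℕ) (hn : n ≠ 0)
    (h : x ^ n ∈ commutator F) : x ∈ commutator F := by
  let e := IsFreeGroup.toFreeGroup F
  have h1 : (commutator F).map e.toMonoidHom = commutator _ := by
    rw [map_commutator_eq, MonoidHom.range_eq_top.mpr e.surjective]; rfl
  have h2 : e x ∈ commutator _ := mem_commutator_of_pow_mem_freeGroup (e x) n hn (by
    rw [← map_pow, ← h1]; exact mem_map_of_mem _ h)
  rw [← h1] at h2
  obtain ⟨y, hy, hyx⟩ := h2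
  rwa [← e.injective hyx]

theorem mk_mem_commutator_hopf_iff (π : F →* Q) (x : F) :
    (QuotientGroup.mk x : HopfExt π) ∈ commutator (HopfExt π) ↔ x ∈ commutator F := by
  have h1 : (commutator F).map (QuotientGroup.mk' ⁅π.ker, (⊤ : Subgroup F)⁆) = commutator _ := by
    rw [map_commutator_eq, MonoidHom.range_eq_top.mpr (QuotientGroup.mk'_surjective _)]; rfl
  rw [← h1]
  constructor
  · rintro ⟨y, hy, hyx⟩
    have : y⁻¹ * x ∈ commutator F :=
      commutator_mono le_top le_rfl (QuotientGroup.eq.mp hyx)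
    simpa using mul_mem hy this
  · exact fun h => mem_map_of_mem _ h

theorem hopf_torsionFree [IsFreeGroup F] (π : F →* Q) (x : HopfExt π) (n : ℕ) (hn : n ≠ 0)
    (h : x ^ n ∈ commutator (HopfExt π)) : x ∈ commutator (HopfExt π) := by
  obtain ⟨x, rfl⟩ := QuotientGroup.mk_surjective x
  rw [← QuotientGroup.mk_pow, mk_mem_commutator_hopf_iff] at h
  rw [mk_mem_commutator_hopf_iff]
  exact mem_commutator_of_pow_mem x n hn h

/-- **Hopf's formula**. -/
theorem hasSchurMultiplier_hopf [IsFreeGroup F] [Group.FG F] [Finite Q] (π : F →* Q)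
    (hπ : Surjective π) : HasSchurMultiplier Q (hopfMult π) := by
  have hc := hopfMap_ker_le_center π
  have hs := hopfMap_surjective π hπ
  obtain ⟨S, hS1, hS2, hS3⟩ := exists_complement (hopfMap π) hc (hopf_torsionFree π) _ le_rfl
    le_sup_left
  have : S.Normal := normal_of_le_center (hS1.trans hc)
  obtain ⟨h1, ⟨e⟩⟩ := stem_of_complement (hopfMap π) hs hc S hS1 hS2 hS3
  have := finite_ker_inf_commutator (hopfMap π) hc
  have : Finite (QuotientGroup.lift S (hopfMap π) hS1).ker := Finite.of_equiv _ e.symm.toEquiv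
  have := finite_of_finite_ker (QuotientGroup.lift S (hopfMap π) hS1)
  refine hasSchurMultiplier_mk _ h1 ⟨e⟩ ?_
  intro Δ _ _ τ hτ
  obtain ⟨φ, hφ⟩ := exists_hopf_lift π τ hτ.1 hτ.2.1
  obtain ⟨ρ, hρ, -⟩ := exists_surjective_ker_inf_commutator _ hs τ hτ.2.1 φ hφ
  let f := MulEquiv.subgroupCongr (inf_eq_left.mpr hτ.2.2)
  exact ⟨f.toMonoidHom.comp ρ, f.surjective.comp hρ⟩

theorem freeGroup_lift_id_surjective : Surjective (FreeGroup.lift (id : Q → Q)) :=
  fun q => ⟨FreeGroup.of q, by simp⟩

end Hopf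

section Main

variable {Q : Type u} [Group Q] {A : Type v} [CommGroup A]

/-- Every finite group has a Schur multiplier. -/
theorem exists_hasSchurMultiplier (Q : Type u) [Group Q] [Finite Q] :
    ∃ (A : Type u) (_ : CommGroup A), HasSchurMultiplier Q A :=
  ⟨_, _, hasSchurMultiplier_hopf _ freeGroup_lift_id_surjective⟩

theorem nonempty_equiv_hopfMult (hA : HasSchurMultiplier Q A) {F : Type w} [Group F]
    [IsFreeGroup F] [Group.FG F] (π : F →* Q) (hπ : Surjective π) :
    Nonempty (A ≃* hopfMult π) := by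
  have := finite_base hA
  exact mult_unique hA (hasSchurMultiplier_hopf π hπ)

/-- For every central extension `ξ` of `Q`, finite or not, `ker ξ ⊓ X'` is an image of the
multiplier. -/
theorem exists_surjective_of_central (hA : HasSchurMultiplier Q A) {X : Type w} [Group X]
    (ξ : X →* Q) (hξ : Surjective ξ) (hc : ξ.ker ≤ center X) :
    ∃ π : A →* ↥(ξ.ker ⊓ commutator X), Surjective π := by
  have := finite_base hA
  obtain ⟨e⟩ := nonempty_equiv_hopfMult hA _ freeGroup_lift_id_surjective
  obtain ⟨φ, hφ⟩ := exists_hopf_lift (FreeGroup.lift (id : Q → Q)) ξ hξ hc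
  obtain ⟨ρ, hρ, -⟩ := exists_surjective_ker_inf_commutator _
    (hopfMap_surjective _ freeGroup_lift_id_surjective) ξ hc φ hφ
  exact ⟨ρ.comp e.toMonoidHom, hρ.comp e.surjective⟩

theorem card_ker_inf_commutator_dvd (hA : HasSchurMultiplier Q A) {X : Type w} [Group X]
    (ξ : X →* Q) (hξ : Surjective ξ) (hc : ξ.ker ≤ center X) :
    Nat.card ↥(ξ.ker ⊓ commutator X) ∣ Nat.card A := by
  obtain ⟨π, hπ⟩ := exists_surjective_of_central hA ξ hξ hc
  exact Subgroup.card_dvd_of_surjective π hπ

theorem card_ker_inf_commutator_le (hA : HasSchurMultiplier Q A) {X : Type w} [Group X]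
    (ξ : X →* Q) (hξ : Surjective ξ) (hc : ξ.ker ≤ center X) :
    Nat.card ↥(ξ.ker ⊓ commutator X) ≤ Nat.card A := by
  have := finite_mult hA
  exact Nat.le_of_dvd Nat.card_pos (card_ker_inf_commutator_dvd hA ξ hξ hc)

/-- To identify the multiplier: a central extension realising `A`, and a bound on the kernels of
all finite stem extensions. -/
theorem hasSchurMultiplier_of_card_le [Finite Q] {X : Type w} [Group X]
    (ξ : X →* Q) (hξ : Surjective ξ) (hc : ξ.ker ≤ center X)
    (f : ↥(ξ.ker ⊓ commutator X) →* A) (hf : Surjective f)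
    (h : ∀ (Δ : Type u) [Group Δ] [Finite Δ] (τ : Δ →* Q), IsStemExtension τ →
      Nat.card τ.ker ≤ Nat.card A) : HasSchurMultiplier Q A := by
  obtain ⟨M, _, hM⟩ := exists_hasSchurMultiplier Q
  have := finite_mult hM
  obtain ⟨π, hπ⟩ := exists_surjective_of_central hM ξ hξ hc
  obtain ⟨Γ, _, _, σ, hσ, ⟨e⟩⟩ := hM.1
  have h1 : Nat.card M ≤ Nat.card A := by
    rw [← Nat.card_congr e.toEquiv]; exact h Γ σ hσ
  have hb : Bijective (f.comp π) := (hf.comp hπ).bijective_of_nat_card_le h1
  exact mult_congr hM (MulEquiv.refl Q) (MulEquiv.ofBijective _ hb)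

/-- The multiplier is trivial as soon as all finite stem extensions have trivial kernel. -/
theorem hasSchurMultiplier_of_subsingleton [Finite Q] [Subsingleton A]
    (h : ∀ (Δ : Type u) [Group Δ] [Finite Δ] (τ : Δ →* Q), IsStemExtension τ → τ.ker = ⊥) :
    HasSchurMultiplier Q A := by
  refine hasSchurMultiplier_mk (MonoidHom.id Q) isStemExtension_id ?_ ?_
  · have : Unique (MonoidHom.id Q).ker := by rw [MonoidHom.ker_id]; infer_instance
    have : Unique A := uniqueOfSubsingleton 1
    exact ⟨MulEquiv.ofUnique⟩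
  · intro Δ _ _ τ hτ
    refine ⟨1, fun x => ⟨1, Subtype.ext ?_⟩⟩
    have : (x : Δ) ∈ (⊥ : Subgroup Δ) := h Δ τ hτ ▸ x.2
    simpa using (mem_bot.mp this).symm

theorem ker_inf_commutator_eq_bot [Subsingleton A] (hA : HasSchurMultiplier Q A) {X : Type w}
    [Group X] (ξ : X →* Q) (hξ : Surjective ξ) (hc : ξ.ker ≤ center X) :
    ξ.ker ⊓ commutator X = ⊥ := by
  obtain ⟨π, hπ⟩ := exists_surjective_of_central hA ξ hξ hc
  rw [eq_bot_iff]
  intro x hx
  obtain ⟨a, ha⟩ := hπ ⟨x, hx⟩
  rw [Subsingleton.elim a 1, map_one] at ha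
  exact (congrArg Subtype.val ha).symm

end Main

end Cfsg.Agent.Schur
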