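import Mathlib
import Cfsg.Prelude.Def_KGroupFacts
import Cfsg.Agent.Lib.Schur.Hopf

/-!
Fibre products of central extensions and lifting along Schur covers.
-/

set_option autoImplicit false

namespace Cfsg.Agent.Schur

open Subgroup Function
open scoped commutatorElement IsMulCommutative

universe u v w

section Pullback

variable {Γ : Type u} {X : Type v} {Q : Type w} [Group Γ] [Group X] [Group Q]

/-- The fibre product of `σ` and `ξ`. -/
def pb (σ : Γ →* Q) (ξ : X →* Q) : Subgroup (Γ × X) :=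
  (σ.comp (MonoidHom.fst Γ X)).eqLocus (ξ.comp (MonoidHom.snd Γ X))

theorem mem_pb {σ : Γ →* Q} {ξ : X →* Q} {y : Γ × X} : y ∈ pb σ ξ ↔ σ y.1 = ξ y.2 := Iff.rfl

/-- First projection of the fibre product. -/
def pbFst (σ : Γ →* Q) (ξ : X →* Q) : pb σ ξ →* Γ := (MonoidHom.fst Γ X).comp (pb σ ξ).subtype

/-- Second projection of the fibre product. -/
def pbSnd (σ : Γ →* Q) (ξ : X →* Q) : pb σ ξ →* X := (MonoidHom.snd Γ X).comp (pb σ ξ).subtype

@[simp] theorem pbFst_apply (σ : Γ →* Q) (ξ : X →* Q) (y : pb σ ξ) : pbFst σ ξ y = y.1.1 := rfl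

@[simp] theorem pbSnd_apply (σ : Γ →* Q) (ξ : X →* Q) (y : pb σ ξ) : pbSnd σ ξ y = y.1.2 := rfl

theorem pb_comm (σ : Γ →* Q) (ξ : X →* Q) : ξ.comp (pbSnd σ ξ) = σ.comp (pbFst σ ξ) := by
  ext y; exact (mem_pb.mp y.2).symm

theorem pbFst_surjective (σ : Γ →* Q) (ξ : X →* Q) (hξ : Surjective ξ) :
    Surjective (pbFst σ ξ) := by
  intro g
  obtain ⟨x, hx⟩ := hξ (σ g)
  exact ⟨⟨(g, x), hx.symm⟩, rfl⟩

theorem pbSnd_surjective (σ : Γ →* Q) (ξ : X →* Q) (hσ : Surjective σ) :
    Surjective (pbSnd σ ξ) := by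
  intro x
  obtain ⟨g, hg⟩ := hσ (ξ x)
  exact ⟨⟨(g, x), hg⟩, rfl⟩

theorem mem_center_pb {σ : Γ →* Q} {ξ : X →* Q} {y : pb σ ξ} (h1 : y.1.1 ∈ center Γ)
    (h2 : y.1.2 ∈ center X) : y ∈ center (pb σ ξ) := by
  rw [Subgroup.mem_center_iff] at h1 h2 ⊢
  intro g
  exact Subtype.ext (Prod.ext (h1 _) (h2 _))

theorem pbFst_ker_le_center (σ : Γ →* Q) (ξ : X →* Q) (hc : ξ.ker ≤ center X) :
    (pbFst σ ξ).ker ≤ center _ := by
  intro y hy
  have h1 : y.1.1 = 1 := hy
  refine mem_center_pb (h1 ▸ one_mem _) (hc ?_)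
  rw [MonoidHom.mem_ker, ← mem_pb.mp y.2, h1, map_one]

theorem pb_ker_le_center (σ : Γ →* Q) (ξ : X →* Q) (hσ : σ.ker ≤ center Γ)
    (hc : ξ.ker ≤ center X) : (σ.comp (pbFst σ ξ)).ker ≤ center _ := by
  intro y hy
  have h1 : σ y.1.1 = 1 := hy
  refine mem_center_pb (hσ h1) (hc ?_)
  rw [MonoidHom.mem_ker, ← mem_pb.mp y.2, h1]

/-- If the fibre product of two stem extensions is "abelian-split" over the first, the kernel of the
second is an image of the kernel of the first. -/
theorem exists_surjective_ker_of_pb (σ : Γ →* Q) (ξ : X →* Q) (hσ : IsStemExtension σ)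
    (hξ : IsStemExtension ξ) (h : (pbFst σ ξ).ker ⊓ commutator _ = ⊥) :
    ∃ π : σ.ker →* ξ.ker, Surjective π := by
  have hs : Surjective (σ.comp (pbFst σ ξ)) := hσ.1.comp (pbFst_surjective σ ξ hξ.1)
  obtain ⟨f, hf, hf'⟩ := exists_surjective_ker_inf_commutator _ hs σ hσ.2.1 (pbFst σ ξ) rfl
  obtain ⟨g, hg, -⟩ := exists_surjective_ker_inf_commutator _ hs ξ hξ.2.1 (pbSnd σ ξ)
    (pb_comm σ ξ)
  have hinj : Injective f := by
    rw [injective_iff_map_eq_one]
    intro a ha
    have h1 : pbFst σ ξ a = 1 := by rw [← hf', ha]; rfl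
    have : (a : pb σ ξ) ∈ (pbFst σ ξ).ker ⊓ commutator _ := ⟨h1, a.2.2⟩
    rw [h] at this
    exact Subtype.ext this
  let e1 := MulEquiv.subgroupCongr (inf_eq_left.mpr hσ.2.2)
  let e2 := MulEquiv.subgroupCongr (inf_eq_left.mpr hξ.2.2)
  let e := MulEquiv.ofBijective f ⟨hinj, hf⟩
  exact ⟨e2.toMonoidHom.comp (g.comp (e.symm.toMonoidHom.comp e1.symm.toMonoidHom)),
    e2.surjective.comp (hg.comp (e.symm.surjective.comp e1.symm.surjective))⟩

end Pullback

section Cover

variable {Q : Type u} [Group Q] {A : Type v} [CommGroup A]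

/-- Over a Schur cover `σ`, a central extension of `Q` factoring through `σ` has kernel meeting the
commutator subgroup trivially. -/
theorem ker_inf_commutator_eq_bot_of_cover (hA : HasSchurMultiplier Q A) {Γ : Type*} [Group Γ]
    (σ : Γ →* Q) (hσ : IsStemExtension σ) (hk : Nonempty (σ.ker ≃* A)) {Y : Type*} [Group Y]
    (p : Y →* Γ) (hp : Surjective p) (hc : (σ.comp p).ker ≤ center Y) :
    p.ker ⊓ commutator Y = ⊥ := by
  have hs : Surjective (σ.comp p) := hσ.1.comp hp
  have := finite_base hA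
  have := finite_ker_inf_commutator _ hc
  obtain ⟨f, hf, hf'⟩ := exists_surjective_ker_inf_commutator _ hs σ hσ.2.1 p rfl
  have h1 := card_ker_inf_commutator_le hA _ hs hc
  rw [← Nat.card_congr hk.some.toEquiv,
    ← Nat.card_congr (MulEquiv.subgroupCongr (inf_eq_left.mpr hσ.2.2)).toEquiv] at h1
  have hb := hf.bijective_of_nat_card_le h1
  rw [eq_bot_iff]
  rintro y ⟨hy1, hy2⟩
  have hy1' : p y = 1 := hy1
  have : f ⟨y, by simp [hy1'], hy2⟩ = 1 := by
    apply Subtype.ext; rw [hf']; exact hy1'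
  have := (injective_iff_map_eq_one f).mp hb.1 _ this
  exact congrArg Subtype.val this

/-- Homomorphisms into a divisible abelian group extend from a subgroup meeting the commutator
subgroup trivially. -/
theorem exists_extension_of_divisible {Y C : Type*} [Group Y] [CommGroup C]
    (hC : ∀ (n : ℕ), n ≠ 0 → Surjective (fun c : C => c ^ n)) (D : Subgroup Y)
    (hD : D ⊓ commutator Y = ⊥) (l : D →* C) : ∃ θ : Y →* C, θ.comp D.subtype = l := by
  have hinj : Injective (Abelianization.of.comp D.subtype) := by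
    rw [injective_iff_map_eq_one]
    intro a ha
    have : (a : Y) ∈ D ⊓ commutator Y := ⟨a.2, by rw [← Abelianization.ker_of]; exact ha⟩
    rw [hD] at this
    exact Subtype.ext this
  have : IsMulCommutative D := ⟨⟨fun a b => hinj (by rw [map_mul, map_mul, mul_comm])⟩⟩
  let _ : DivisibleBy (Additive C) ℕ := divisibleByOfSMulRightSurj _ _ (fun {n} hn => hC n hn)
  let _ : DivisibleBy (Additive C) ℤ := AddGroup.divisibleByIntOfDivisibleByNat _
  obtain ⟨h, hh⟩ := (Module.Baer.of_divisible (Additive C)).extension_property_addMonoidHom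
    (MonoidHom.toAdditive (Abelianization.of.comp D.subtype)) hinj (MonoidHom.toAdditive l)
  refine ⟨(MonoidHom.toAdditive.symm h).comp Abelianization.of, ?_⟩
  ext d
  exact DFunLike.congr_fun hh (Additive.ofMul d)

theorem exists_factor_of_ker_le {G H K : Type*} [Group G] [Group H] [Monoid K] (f : G →* H)
    (hf : Surjective f) (g : G →* K) (h : f.ker ≤ g.ker) : ∃ k : H →* K, k.comp f = g := by
  choose s hs using hf
  have key : ∀ a b, f a = f b → g a = g b := fun a b hab => by
    have : g (a⁻¹ * b) = 1 := h (by simp [MonoidHom.mem_ker, hab])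
    calc g a = g a * g (a⁻¹ * b) := by rw [this, mul_one]
      _ = g b := by rw [← map_mul]; simp
  refine ⟨⟨⟨fun y => g (s y), ?_⟩, ?_⟩, ?_⟩
  · rw [key (s 1) 1 (by simp [hs]), map_one]
  · intro a b
    rw [← map_mul]
    exact key _ _ (by simp [hs])
  · ext x
    exact key _ _ (hs _)

/-- Lifting to a central extension with divisible kernel, along a Schur cover. -/
theorem exists_lift_of_divisible (hA : HasSchurMultiplier Q A) {Γ : Type*} [Group Γ]
    (σ : Γ →* Q) (hσ : IsStemExtension σ) (hk : Nonempty (σ.ker ≃* A)) {G : Type*} [Group G]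
    (hC : ∀ (n : ℕ), n ≠ 0 → Surjective (fun c : center G => c ^ n))
    (γ : Q →* G ⧸ center G) :
    ∃ ρ : Γ →* G, (QuotientGroup.mk' (center G)).comp ρ = γ.comp σ := by
  let ξ := QuotientGroup.mk' (center G)
  have hξ : ξ.ker = center G := QuotientGroup.ker_mk' _
  let p := pbFst (γ.comp σ) ξ
  let r := pbSnd (γ.comp σ) ξ
  have hp : Surjective p := pbFst_surjective _ _ (QuotientGroup.mk'_surjective _)
  have hc : (σ.comp p).ker ≤ center _ := by
    intro y hy
    have h1 : σ y.1.1 = 1 := hy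
    refine mem_center_pb (hσ.2.1 h1) (hξ.le ?_)
    rw [MonoidHom.mem_ker, ← mem_pb.mp y.2, MonoidHom.comp_apply, h1, map_one]
  have hbot := ker_inf_commutator_eq_bot_of_cover hA σ hσ hk p hp hc
  have hr : ∀ y : p.ker, r y ∈ center G := fun y => by
    have h1 : y.1.1.1 = 1 := y.2
    apply hξ.le
    show ξ y.1.1.2 = 1
    rw [← mem_pb.mp y.1.2, h1, map_one]
  obtain ⟨θ, hθ⟩ := exists_extension_of_divisible hC p.ker hbot
    ((r.comp p.ker.subtype).codRestrict _ hr)
  let ρ' : pb (γ.comp σ) ξ →* G :=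
    { toFun := fun y => r y * ((θ y : center G) : G)⁻¹
      map_one' := by simp
      map_mul' := fun a b => by
        have := Subgroup.mem_center_iff.mp (inv_mem (θ a).2) (r b * ((θ b : center G) : G)⁻¹)
        rw [map_mul, map_mul, mul_assoc (r a) ((θ a : center G) : G)⁻¹, ← this]
        simp [mul_assoc] }
  obtain ⟨ρ, hρ⟩ := exists_factor_of_ker_le p hp ρ' (fun y hy => by
    have := congrArg Subtype.val (DFunLike.congr_fun hθ ⟨y, hy⟩)
    show r y * ((θ y : center G) : G)⁻¹ = 1
    rw [mul_inv_eq_one]; exact this.symm)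
  refine ⟨ρ, ?_⟩
  ext g
  obtain ⟨y, rfl⟩ := hp g
  have h1 : ρ (p y) = r y * ((θ y : center G) : G)⁻¹ := DFunLike.congr_fun hρ y
  have h2 : ξ ((θ y : center G) : G) = 1 := by rw [← MonoidHom.mem_ker, hξ]; exact (θ y).2
  show ξ (ρ (p y)) = _
  rw [h1, map_mul, map_inv, h2, inv_one, mul_one]
  exact (mem_pb.mp y.2).symm

theorem center_GL_divisible (m : ℕ) (n : ℕ) (hn : n ≠ 0) :
    Surjective (fun c : center (GL (Fin m) ℂ) => c ^ n) := by
  rintro ⟨g, hg⟩
  have hg' := hg
  rw [Matrix.GeneralLinearGroup.center_eq_range_scalar] at hg'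
  obtain ⟨a, rfl⟩ := hg'
  obtain ⟨z, hz⟩ := IsAlgClosed.exists_pow_nat_eq (a : ℂ) (Nat.pos_of_ne_zero hn)
  have hz0 : z ≠ 0 := by
    rintro rfl
    rw [zero_pow hn] at hz
    exact a.ne_zero hz.symm
  refine ⟨⟨Matrix.GeneralLinearGroup.scalar (Fin m) (Units.mk0 z hz0), ?_⟩, ?_⟩
  · rw [Matrix.GeneralLinearGroup.center_eq_range_scalar]; exact ⟨_, rfl⟩
  · apply Subtype.ext
    show (Matrix.GeneralLinearGroup.scalar (Fin m) (Units.mk0 z hz0)) ^ n = _
    rw [← map_pow]
    congr 1
    ext; simpa using hz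

/-- If a central extension of a perfect group meets its commutator subgroup trivially in the
kernel, it splits. -/
theorem exists_section_of_perfect {Y G : Type*} [Group Y] [Group G] (hG : Group.IsPerfect G)
    (p : Y →* G) (hp : Surjective p) (h : p.ker ⊓ commutator Y = ⊥) :
    ∃ s : G →* Y, p.comp s = MonoidHom.id G := by
  let f : commutator Y →* G := p.comp (commutator Y).subtype
  have hf : Bijective f := by
    constructor
    · rw [injective_iff_map_eq_one]
      intro a ha
      have : (a : Y) ∈ p.ker ⊓ commutator Y := ⟨ha, a.2⟩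
      rw [h] at this
      exact Subtype.ext this
    · intro g
      have h1 : (commutator Y).map p = commutator G := by
        rw [map_commutator_eq, MonoidHom.range_eq_top.mpr hp]; rfl
      have : g ∈ (commutator Y).map p := by rw [h1]; exact Group.IsPerfect.mem_commutator
      obtain ⟨y, hy, rfl⟩ := this
      exact ⟨⟨y, hy⟩, rfl⟩
  refine ⟨(commutator Y).subtype.comp (MulEquiv.ofBijective f hf).symm.toMonoidHom, ?_⟩
  ext g
  exact (MulEquiv.ofBijective f hf).apply_symm_apply g

/-- Two homomorphisms from a perfect group that agree modulo a central kernel are equal. -/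
theorem hom_eq_of_perfect {G X P : Type*} [Group G] [Group X] [Group P] (hG : Group.IsPerfect G)
    (ξ : X →* P) (hc : ξ.ker ≤ center X) (η η' : G →* X) (h : ξ.comp η = ξ.comp η') :
    η = η' := by
  have h1 : commutator G ≤ η.eqLocus η' := by
    rw [commutator_def, commutator_le]
    intro a _ b _
    show η ⁅a, b⁆ = η' ⁅a, b⁆
    rw [map_commutatorElement, map_commutatorElement]
    exact commutatorElement_eq_of_map_eq ξ hc (DFunLike.congr_fun h a) (DFunLike.congr_fun h b)
  ext g
  exact h1 Group.IsPerfect.mem_commutator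

theorem isPerfect_of_stem {Γ P : Type*} [Group Γ] [Group P] (hP : Group.IsPerfect P) (σ : Γ →* P)
    (hσ : IsStemExtension σ) : Group.IsPerfect Γ := by
  rw [Group.isPerfect_def, eq_top_iff]
  intro g _
  have h1 : (commutator Γ).map σ = commutator P := by
    rw [map_commutator_eq, MonoidHom.range_eq_top.mpr hσ.1]; rfl
  have : σ g ∈ (commutator Γ).map σ := by rw [h1]; exact Group.IsPerfect.mem_commutator
  obtain ⟨y, hy, hyg⟩ := this
  have : y⁻¹ * g ∈ commutator Γ := hσ.2.2 (by simp [MonoidHom.mem_ker, hyg])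
  simpa using mul_mem hy this

end Cover

end Cfsg.Agent.Schur
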