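import Mathlib
import Cfsg.Agent.Lib.Schur.AutRank
import Cfsg.Agent.Lib.Coprime.PiSep
import Cfsg.Agent.Lib.Coprime.Generate
import Cfsg.Agent.Lib.Coprime.AxB
import Cfsg.Agent.Lib.Transfer.Basic2

/-!
Groups with a cyclic Sylow subgroup.
-/

namespace Cfsg.Agent.Schur

open Subgroup

variable {G : Type*} [Group G] [Finite G] {p : ℕ} [hp : Fact p.Prime]

theorem isPSolvable_of_hasNormalPComplement (h : HasNormalPComplement p G) : IsPSolvable p G := by
  obtain ⟨K, hK, hKc, hKq⟩ := Transfer.hasNormalPComplement_iff_exists_normal.mp h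
  exact Coprime.isPSolvable_of_normal_of_quotient K (Coprime.isPSolvable_of_coprime hKc)
    (Coprime.isPSolvable_of_isPGroup hKq)

theorem isCyclic_of_isPGroup_of_sylow (P : Sylow p G) (hP : IsCyclic (P : Subgroup G))
    {X : Subgroup G} (hX : IsPGroup p X) : IsCyclic X := by
  obtain ⟨Q, hQ⟩ := hX.exists_le_sylow
  have : IsCyclic (Q : Subgroup G) := isCyclic_of_surjective _ (P.equiv Q).surjective
  exact isCyclic_of_injective (inclusion hQ) (inclusion_injective hQ)

theorem isCyclic_sylow_subgroup (P : Sylow p G) (hP : IsCyclic (P : Subgroup G))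
    {C : Subgroup G} (R : Sylow p C) : IsCyclic (R : Subgroup C) := by
  have := isCyclic_of_isPGroup_of_sylow P hP (R.isPGroup'.map C.subtype)
  exact isCyclic_of_surjective _
    ((R : Subgroup C).equivMapOfInjective _ C.subtype_injective).symm.surjective

theorem isCyclic_sylow_quotient (P : Sylow p G) (hP : IsCyclic (P : Subgroup G))
    (N : Subgroup G) [N.Normal] (R : Sylow p (G ⧸ N)) : IsCyclic (R : Subgroup (G ⧸ N)) := by
  refine isCyclic_of_isPGroup_of_sylow (P.mapSurjective (QuotientGroup.mk'_surjective N)) ?_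
    R.isPGroup'
  exact isCyclic_of_surjective _ ((QuotientGroup.mk' N).subgroupMap_surjective (P : Subgroup G))

omit [Finite G] hp in
/-- The derived subgroup centralizes every cyclic normal subgroup. -/
theorem commutator_le_centralizer_of_isCyclic (Z : Subgroup G) [Z.Normal] [IsCyclic Z] :
    commutator G ≤ centralizer (Z : Set G) := by
  let f : G →* (ZMod (Nat.card Z))ˣ :=
    (IsCyclic.mulAutMulEquiv Z).toMonoidHom.comp MulAut.conjNormal
  refine (Abelianization.commutator_subset_ker f).trans fun g hg z hz => ?_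
  have h : (MulAut.conjNormal g : MulAut Z) = 1 := by
    simpa [f] using hg
  have := congrArg (fun f : MulAut Z => (f ⟨z, hz⟩ : G)) h
  simp only [MulAut.conjNormal_apply, MulAut.one_apply] at this
  rw [← mul_inv_eq_iff_eq_mul.mp this]

/-- A coprime element normalizing a cyclic `p`-group and centralizing a nontrivial element of it
centralizes it. -/
theorem mem_centralizer_of_isCyclic {P : Subgroup G} (hP : IsPGroup p P) [IsCyclic P] {g : G}
    (hg : g ∈ normalizer (P : Set G)) (hgp : (orderOf g).Coprime p) {z : G} (hz : z ∈ P)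
    (h1 : z ≠ 1) (hc : g * z = z * g) : g ∈ centralizer (P : Set G) := by
  have hcop : (Nat.card (zpowers g)).Coprime (Nat.card P) :=
    Coprime.coprime_card_of_isPGroup (by rwa [Nat.card_zpowers]) hP
  rcases hP.commutator_eq_bot_or_commutator_eq_self (zpowers_le.mpr hg) hcop.symm with h | h
  · exact commutator_eq_bot_iff_le_centralizer.mp h (mem_zpowers g)
  · have h2 := Coprime.centralizer_inf_commutator_eq_bot (zpowers_le.mpr hg) hcop inferInstance
    rw [commutator_comm, h, Cls.centralizer_zpowers] at h2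
    exact absurd (h2.le ⟨⟨hz, Cls.mem_centralizer_single.mpr hc.symm⟩, hz⟩) h1

/-- A group with a cyclic Sylow `p`-subgroup and a central element of order divisible by `p`
is `p`-nilpotent. -/
theorem hasNormalPComplement_of_isCyclic_of_center (P : Sylow p G)
    (hP : IsCyclic (P : Subgroup G)) {Z : Subgroup G} (hZ : IsPGroup p Z) (h1 : Z ≠ ⊥)
    (hc : Z ≤ center G) : HasNormalPComplement p G := by
  refine hasNormalPComplement_of_abelian_of_coprime P inferInstance fun g hg hgp => ?_
  obtain ⟨⟨z, hz⟩, hz1⟩ := (Subgroup.ne_bot_iff_exists_ne_one).mp h1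
  have := PGrp.normal_of_le_center hc
  exact mem_centralizer_of_isCyclic P.isPGroup' hg hgp (hZ.le_sylow_of_normal P hz)
    (fun h => hz1 (Subtype.ext h)) (mem_center_iff.mp (hc hz) g)

/-- With a cyclic Sylow `p`-subgroup, centralizers of nontrivial `p`-subgroups are
`p`-nilpotent. -/
theorem hasNormalPComplement_centralizer_of_isCyclic (P : Sylow p G)
    (hP : IsCyclic (P : Subgroup G)) {Z : Subgroup G} (hZ : IsPGroup p Z) (h1 : Z ≠ ⊥) :
    HasNormalPComplement p (centralizer (Z : Set G)) := by
  have hZc := isCyclic_of_isPGroup_of_sylow P hP hZ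
  obtain ⟨R⟩ : Nonempty (Sylow p (centralizer (Z : Set G))) := inferInstance
  have hZC : Z ≤ centralizer (Z : Set G) := le_centralizer Z
  refine hasNormalPComplement_of_isCyclic_of_center R (isCyclic_sylow_subgroup P hP R)
    (Z := Z.subgroupOf _) (hZ.of_equiv (subgroupOfEquivOfLe hZC).symm) ?_ fun z hz => ?_
  · rw [Ne, subgroupOf_eq_bot]
    exact fun h => h1 (h.eq_bot_of_le hZC)
  · exact mem_center_iff.mpr fun g => Subtype.ext (g.2 _ hz).symm

/-- A group with a cyclic Sylow `p`-subgroup and a nontrivial normal `p`-subgroup is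
`p`-solvable. -/
theorem isPSolvable_of_isCyclic_of_normal (P : Sylow p G) (hP : IsCyclic (P : Subgroup G))
    (Z : Subgroup G) [Z.Normal] (hZ : IsPGroup p Z) (h1 : Z ≠ ⊥) : IsPSolvable p G := by
  have hZc := isCyclic_of_isPGroup_of_sylow P hP hZ
  have hq : IsMulCommutative (G ⧸ centralizer (Z : Set G)) :=
    PGrp.isMulCommutative_quotient_iff.mpr (commutator_le_centralizer_of_isCyclic Z)
  exact Coprime.isPSolvable_of_normal_of_quotient (centralizer (Z : Set G))
    (isPSolvable_of_hasNormalPComplement (hasNormalPComplement_centralizer_of_isCyclic P hP hZ h1))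
    (Coprime.isPSolvable_of_isSolvable (Coprime.isSolvable_of_isMulCommutative hq))

/-- With a cyclic Sylow `p`-subgroup, a normal subgroup of index divisible by `p` is
`p`-nilpotent. -/
theorem hasNormalPComplement_of_isCyclic_of_dvd_index (P : Sylow p G)
    (hP : IsCyclic (P : Subgroup G)) (H : Subgroup G) [H.Normal] (h2 : p ∣ H.index) :
    HasNormalPComplement p H := by
  set L := H ⊔ (P : Subgroup G) with hL
  refine Transfer.hasNormalPComplement_of_le (le_sup_left : H ≤ L) ?_
  let R : Sylow p L := P.subtype le_sup_right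
  have hR := isCyclic_sylow_subgroup P hP R
  rcases R.normalizer_le_centralizer_or_le_commutator with h | h
  · exact Transfer.burnside_of_normalizer_le_centralizer R h
  refine absurd h2 (Cls.not_dvd_index_of_sylow_le (Q := P) fun x hx => ?_)
  have h3 : commutator L ≤ H.subgroupOf L := by
    rw [commutator_def, commutator_le]
    rintro ⟨a, ha⟩ - ⟨b, hb⟩ -
    rw [mem_subgroupOf, ← QuotientGroup.eq_one_iff]
    change QuotientGroup.mk' H (a * b * a⁻¹ * b⁻¹) = 1
    obtain ⟨a1, ha1, a2, ha2, rfl⟩ := mem_sup_of_normal_left.mp ha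
    obtain ⟨b1, hb1, b2, hb2, rfl⟩ := mem_sup_of_normal_left.mp hb
    have e1 : QuotientGroup.mk' H a1 = 1 := (QuotientGroup.eq_one_iff _).mpr ha1
    have e2 : QuotientGroup.mk' H b1 = 1 := (QuotientGroup.eq_one_iff _).mpr hb1
    have e3 : QuotientGroup.mk' H a2 * QuotientGroup.mk' H b2 =
        QuotientGroup.mk' H b2 * QuotientGroup.mk' H a2 := by
      rw [← map_mul, ← map_mul, Coprime.mul_comm_of_mem inferInstance ha2 hb2]
    simp only [map_mul, map_inv, e1, e2, one_mul, e3]
    group
  exact h3 (h (show (⟨x, (le_sup_right : _ ≤ L) hx⟩ : L) ∈ (R : Subgroup L) from hx))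

end Cfsg.Agent.Schur
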