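import Mathlib

/-!
Schur rings: permutation groups containing a regular abelian subgroup.
-/

namespace Cfsg.Agent.Schur

open Finset

variable {C : Type*} [CommGroup C] {Γ : Subgroup (Equiv.Perm C)}

/-- `X` is a union of basic sets of the Schur ring of `Γ`. -/
def SInv (Γ : Subgroup (Equiv.Perm C)) (X : Set C) : Prop :=
  ∀ σ ∈ Γ, ∀ a b, a / b ∈ X → σ a / σ b ∈ X

theorem SInv.iff {X : Set C} (h : SInv Γ X) {σ : Equiv.Perm C} (hσ : σ ∈ Γ) (a b : C) :
    σ a / σ b ∈ X ↔ a / b ∈ X :=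
  ⟨fun h' => by simpa using h σ⁻¹ (inv_mem hσ) _ _ h', h σ hσ a b⟩

/-- The basic set containing `x`. -/
def sOrb (Γ : Subgroup (Equiv.Perm C)) (x : C) : Set C := {y | ∃ σ ∈ Γ, σ x / σ 1 = y}

theorem mem_sOrb_self (x : C) : x ∈ sOrb Γ x := ⟨1, one_mem _, by simp⟩

theorem sInv_sOrb (hΓ : ∀ c, Equiv.mulLeft c ∈ Γ) (x : C) : SInv Γ (sOrb Γ x) := by
  rintro σ hσ a b ⟨τ, hτ, h⟩
  refine ⟨σ * Equiv.mulLeft (b / τ 1) * τ, mul_mem (mul_mem hσ (hΓ _)) hτ, ?_⟩
  have : b / τ 1 * τ x = a := by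
    rw [div_mul_eq_mul_div, mul_div_assoc, h, mul_div_cancel]
  simp [this]

theorem SInv.sOrb_subset {X : Set C} (h : SInv Γ X) {x : C} (hx : x ∈ X) : sOrb Γ x ⊆ X := by
  rintro _ ⟨σ, hσ, rfl⟩
  exact h σ hσ x 1 (by simpa using hx)

theorem SInv.compl {X : Set C} (h : SInv Γ X) : SInv Γ Xᶜ :=
  fun _ hσ a b hab h' => hab ((h.iff hσ a b).mp h')

theorem one_notMem_sOrb {x : C} (hx : x ≠ 1) : 1 ∉ sOrb Γ x := by
  rintro ⟨σ, -, h⟩
  exact hx (σ.injective (div_eq_one.mp h))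

theorem SInv.closure {X : Set C} (h : SInv Γ X) : SInv Γ (Subgroup.closure X : Set C) := by
  intro σ hσ a b hab
  suffices H : ∀ y ∈ Subgroup.closure X, ∀ b, σ (y * b) / σ b ∈ Subgroup.closure X by
    simpa using H _ hab b
  intro y hy
  induction hy using Subgroup.closure_induction with
  | mem x hx => exact fun b => Subgroup.subset_closure (h σ hσ _ _ (by simpa using hx))
  | one => simp
  | mul x y _ _ hx hy =>
    intro b
    have := mul_mem (hx (y * b)) (hy b)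
    rwa [div_mul_div_cancel, ← mul_assoc] at this
  | inv x _ hx =>
    intro b
    have := inv_mem (hx (x⁻¹ * b))
    rwa [inv_div, mul_inv_cancel_left] at this

/-- The radical of a subset. -/
def sRad (X : Set C) : Subgroup C where
  carrier := {c | ∀ w, w * c ∈ X ↔ w ∈ X}
  one_mem' := by simp
  mul_mem' := fun {a b} ha hb w => by rw [← mul_assoc, hb, ha]
  inv_mem' := fun {a} ha w => by rw [← ha, inv_mul_cancel_right]

theorem SInv.sRad {X : Set C} (h : SInv Γ X) : SInv Γ (sRad X : Set C) := by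
  intro σ hσ a b hab w
  obtain ⟨v, hv⟩ := σ.surjective (w * σ a)
  have h1 : w * (σ a / σ b) = σ v / σ b := by rw [hv, mul_div_assoc]
  have h2 : w = σ v / σ a := by rw [hv, mul_div_cancel_right]
  rw [h1, h.iff hσ]
  conv_rhs => rw [h2, h.iff hσ, ← hab]
  rw [div_mul_div_cancel]

theorem SInv.ncard_inter {X Y : Set C} (hX : SInv Γ X) (hY : SInv Γ Y) {σ : Equiv.Perm C}
    (hσ : σ ∈ Γ) (a b : C) :
    {w | w / σ a ∈ X ∧ w / σ b ∈ Y}.ncard = {w | w / a ∈ X ∧ w / b ∈ Y}.ncard := by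
  symm
  refine Set.ncard_congr (fun w _ => σ w) (fun w hw => ⟨hX σ hσ _ _ hw.1, hY σ hσ _ _ hw.2⟩)
    (fun _ _ _ _ h => σ.injective h) fun w hw => ?_
  obtain ⟨v, rfl⟩ := σ.surjective w
  exact ⟨v, ⟨(hX.iff hσ _ _).mp hw.1, (hY.iff hσ _ _).mp hw.2⟩, rfl⟩

theorem coeff_pow_inv [Finite C] {R : Type*} [CommRing R] (f : MonoidAlgebra R C)
    (hf : ∀ σ ∈ Γ, ∀ a b, f.coeff (σ a / σ b) = f.coeff (a / b)) (n : ℕ) :
    ∀ σ ∈ Γ, ∀ a b, (f ^ n).coeff (σ a / σ b) = (f ^ n).coeff (a / b) := by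
  classical
  have := Fintype.ofFinite C
  induction n with
  | zero =>
    intro σ _ a b
    simp [MonoidAlgebra.one_def, Finsupp.single_apply, eq_comm (a := (1 : C)), div_eq_one]
  | succ n ih =>
    have key : ∀ a b, (f ^ (n + 1)).coeff (a / b) =
        ∑ w, (f ^ n).coeff (a / w) * f.coeff (w / b) := fun a b => by
      rw [pow_succ, MonoidAlgebra.coeff_mul_apply_right, Finsupp.sum_fintype _ _ (by simp)]
      refine (Fintype.sum_equiv (Equiv.divRight b) _ _ fun w => ?_).symm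
      simp [mul_comm]
    intro σ hσ a b
    rw [key, key, ← Equiv.sum_comp σ]
    exact sum_congr rfl fun w _ => by rw [ih σ hσ, hf σ hσ]

theorem SInv.pow_prime [Finite C] {X : Set C} (h : SInv Γ X) {p : ℕ} (hp : p.Prime) :
    SInv Γ {y | ¬ p ∣ {x | x ∈ X ∧ x ^ p = y}.ncard} := by
  classical
  have := Fintype.ofFinite C
  have := Fact.mk hp
  have : CharP (MonoidAlgebra (ZMod p) C) p :=
    charP_of_injective_algebraMap (R := ZMod p) (FaithfulSMul.algebraMap_injective _ _) p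
  let f : MonoidAlgebra (ZMod p) C := ∑ x ∈ X.toFinset, MonoidAlgebra.single x 1
  have h1 : ∀ y, f.coeff y = if y ∈ X then 1 else 0 := fun y => by
    simp [f, MonoidAlgebra.coeff_sum, Finsupp.single_apply]
  have h2 : ∀ y, (f ^ p).coeff y = ({x | x ∈ X ∧ x ^ p = y}.ncard : ZMod p) := fun y => by
    rw [sum_pow_char, Set.ncard_eq_toFinset_card']
    simp only [MonoidAlgebra.single_pow, one_pow, MonoidAlgebra.coeff_sum,
      MonoidAlgebra.coeff_single, Finsupp.coe_finsetSum, Finset.sum_apply, Finsupp.single_apply,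
      sum_boole]
    congr 2
    ext x
    simp
  intro σ hσ a b hab
  simp only [Set.mem_ofPred_eq, ← ZMod.natCast_eq_zero_iff, ← h2] at hab ⊢
  rwa [coeff_pow_inv f (fun σ hσ a b => by simp only [h1, h.iff hσ]) p σ hσ]

section
variable [Finite C] {p : ℕ} (hp : p.Prime) (hQ : Nat.card (powMonoidHom p : C →* C).ker = p)
  (hprim : ∀ L : Subgroup C, SInv Γ L → L = ⊥ ∨ L = ⊤)
include hp hQ hprim

theorem SInv.mul_mem_of_primitive {X : Set C} (h : SInv Γ X) {x : C} (hx : x ∈ X)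
    (hxp : x ^ p ≠ 1) {q : C} (hq : q ^ p = 1) : x * q ∈ X := by
  have h1 := (h.pow_prime hp).closure
  have h2 : Subgroup.closure {y | ¬ p ∣ {x | x ∈ X ∧ x ^ p = y}.ncard} ≤
      (powMonoidHom p : C →* C).range := by
    rw [Subgroup.closure_le]
    intro y hy
    obtain ⟨x, -, hx⟩ : {x | x ∈ X ∧ x ^ p = y}.Nonempty := by
      rw [Set.nonempty_iff_ne_empty]
      intro h
      exact hy (by simp [h])
    exact ⟨x, hx⟩
  have h3 : (powMonoidHom p : C →* C).range ≠ ⊤ := fun h => by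
    have := Finite.injective_iff_surjective.mpr (MonoidHom.range_eq_top.mp h)
    rw [← MonoidHom.ker_eq_bot_iff] at this
    rw [this, Subgroup.card_bot] at hQ
    exact hp.one_lt.ne hQ
  have h4 := (hprim _ h1).resolve_right fun h => h3 (top_le_iff.mp (h ▸ h2))
  have h5 : p ∣ {y | y ∈ X ∧ y ^ p = x ^ p}.ncard := by
    by_contra h5
    exact hxp (Subgroup.mem_bot.mp (h4 ▸ Subgroup.subset_closure h5))
  have h6 : {y | y ^ p = x ^ p}.ncard = p := by
    refine Eq.trans ?_ hQ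
    symm
    refine Set.ncard_congr (s := ((powMonoidHom p : C →* C).ker : Set C)) (fun w _ => x * w)
      (fun w hw => ?_) (fun _ _ _ _ h => mul_left_cancel h) fun w hw => ⟨x⁻¹ * w, ?_, by simp⟩
    · have : w ^ p = 1 := hw
      simp [mul_pow, this]
    · have : w ^ p = x ^ p := hw
      simp [mul_pow, this]
  have h7 : {y | y ∈ X ∧ y ^ p = x ^ p} = {y | y ^ p = x ^ p} :=
    Set.eq_of_subset_of_ncard_le (fun _ h => h.2) (by
      rw [h6]
      exact Nat.le_of_dvd ((Set.ncard_pos).mpr ⟨x, hx, rfl⟩) h5)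
  have h8 : x * q ∈ {y | y ^ p = x ^ p} := by simp [mul_pow, hq]
  rw [← h7] at h8
  exact h8.1

theorem SInv.exists_pow_eq_one_of_primitive {X : Set C} (h : SInv Γ X) (h1 : 1 ∉ X)
    (hne : X.Nonempty) : ∃ q ∈ X, q ^ p = 1 := by
  by_contra hh
  push Not at hh
  have h2 : (powMonoidHom p : C →* C).ker ≤ Schur.sRad X := fun q hq w =>
    ⟨fun hw => by
      simpa using h.mul_mem_of_primitive hp hQ hprim hw (hh _ hw) (q := q⁻¹) (inv_mem hq),
    fun hw => h.mul_mem_of_primitive hp hQ hprim hw (hh _ hw) hq⟩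
  rcases hprim _ h.sRad with h3 | h3
  · rw [h3, le_bot_iff] at h2
    rw [h2, Subgroup.card_bot] at hQ
    exact hp.one_lt.ne hQ
  · obtain ⟨x, hx⟩ := hne
    have : x⁻¹ ∈ Schur.sRad X := h3 ▸ Subgroup.mem_top _
    exact h1 (by simpa using (this x).mpr hx)

theorem le_two_mul_ncard_sOrb (hΓ : ∀ c, Equiv.mulLeft c ∈ Γ)
    (hC : (powMonoidHom p : C →* C).ker ≠ ⊤) {x : C} (hx : x ≠ 1) :
    p ≤ 2 * {q | q ∈ sOrb Γ x ∧ q ^ p = 1}.ncard := by
  set X := sOrb Γ x with hX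
  have h : SInv Γ X := sInv_sOrb hΓ x
  have h1 : 1 ∉ X := one_notMem_sOrb hx
  obtain ⟨c, hc, hcp⟩ : ∃ c ∈ X, c ^ p ≠ 1 := by
    by_contra hh
    push Not at hh
    rcases hprim _ h.closure with h2 | h2
    · exact hx (Subgroup.mem_bot.mp (h2 ▸ Subgroup.subset_closure (mem_sOrb_self x)))
    · exact hC (top_le_iff.mp (h2 ▸ (Subgroup.closure_le _).mpr hh))
  obtain ⟨q, hq, hqp⟩ := (sInv_sOrb hΓ c).exists_pow_eq_one_of_primitive hp hQ hprim
    (one_notMem_sOrb fun h => h1 (h ▸ hc)) ⟨c, mem_sOrb_self c⟩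
  obtain ⟨σ, hσ, rfl⟩ := hq
  have h2 := h.ncard_inter h hσ c 1
  have h3 : {w | w ∈ X ∧ w ^ p ≠ 1}.ncard ≤ {w | w / σ c ∈ X ∧ w / σ 1 ∈ X}.ncard := by
    refine Set.ncard_le_ncard_of_injOn (fun w => w * σ 1) (fun w hw => ⟨?_, by simpa using hw.1⟩)
      fun _ _ _ _ h => mul_right_cancel h
    have := h.mul_mem_of_primitive hp hQ hprim hw.1 hw.2 (q := (σ c / σ 1)⁻¹)
      (by rw [inv_pow, hqp, inv_one])
    rwa [inv_div, ← mul_div_assoc] at this
  set A := {q | q ∈ X ∧ q ^ p = 1}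
  let K : Set C := (c * ·) '' ((powMonoidHom p : C →* C).ker : Set C)
  have hK : K.ncard = p := by
    rw [Set.ncard_image_of_injective _ (mul_right_injective c)]
    exact hQ
  have hK2 : K ⊆ {w | w ∈ X ∧ w ^ p ≠ 1} := by
    rintro _ ⟨w, hw, rfl⟩
    have hw : w ^ p = 1 := hw
    exact ⟨h.mul_mem_of_primitive hp hQ hprim hc hcp hw, by simpa [mul_pow, hw] using hcp⟩
  have h4 : {w | w / c ∈ X ∧ w / 1 ∈ X} ⊆
      (({w | w ∈ X ∧ w ^ p ≠ 1} \ K) ∪ A) ∪ (c * ·) '' A := by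
    rintro w ⟨hw1, hw2⟩
    rw [div_one] at hw2
    by_cases h5 : w ^ p = 1
    · exact Or.inl (Or.inr ⟨hw2, h5⟩)
    by_cases h6 : w ∈ K
    · obtain ⟨v, hv, rfl⟩ := h6
      exact Or.inr ⟨v, ⟨by simpa using hw1, hv⟩, rfl⟩
    · exact Or.inl (Or.inl ⟨⟨hw2, h5⟩, h6⟩)
  have h5 := (Set.ncard_le_ncard h4).trans ((Set.ncard_union_le _ _).trans
    (Nat.add_le_add_right (Set.ncard_union_le _ _) _))
  rw [Set.ncard_image_of_injective _ (mul_right_injective c), Set.ncard_sdiff hK2, hK] at h5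
  have h6 := Set.ncard_le_ncard hK2
  rw [hK] at h6
  omega

/-- Schur–Wielandt: an abelian group with exactly `p` solutions of `x ^ p = 1`, not of order
`p`, is a B-group. -/
theorem mem_sOrb_of_primitive (hΓ : ∀ c, Equiv.mulLeft c ∈ Γ)
    (hC : (powMonoidHom p : C →* C).ker ≠ ⊤) {x y : C} (hx : x ≠ 1) (hy : y ≠ 1) :
    y ∈ sOrb Γ x := by
  by_contra h
  have h1 := le_two_mul_ncard_sOrb hp hQ hprim hΓ hC hx
  have h2 := le_two_mul_ncard_sOrb hp hQ hprim hΓ hC hy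
  have h3 := (sInv_sOrb hΓ x).compl.sOrb_subset h
  have h4 : Disjoint {q | q ∈ sOrb Γ x ∧ q ^ p = 1} {q | q ∈ sOrb Γ y ∧ q ^ p = 1} :=
    Set.disjoint_left.mpr fun q h h' => h3 h'.1 h.1
  have h5 : {q | q ∈ sOrb Γ x ∧ q ^ p = 1} ∪ {q | q ∈ sOrb Γ y ∧ q ^ p = 1} ⊂
      ((powMonoidHom p : C →* C).ker : Set C) := by
    refine ⟨fun q h => h.elim (·.2) (·.2), fun h => ?_⟩
    exact (h (one_mem _)).elim (fun h => one_notMem_sOrb hx h.1) fun h => one_notMem_sOrb hy h.1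
  have h6 := Set.ncard_lt_ncard h5
  rw [Set.ncard_union_eq h4] at h6
  have h7 : ((powMonoidHom p : C →* C).ker : Set C).ncard = p := hQ
  omega

end

end Cfsg.Agent.Schur
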